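import Cfsg.Agent.RankOne.Classify.PiecesProof
import Cfsg.Agent.RankOne.Classify.CoordModel
import Cfsg.Agent.Classical.Unitary.Center

/-!
In the rank-one set-up with `|Q| = q³` some non-trivial element of the two-point stabiliser
centralises all involutions of `Q`: it comes from `diag (λ, λ, λ⁻²)` of the unitary group.
-/

set_option autoImplicit false
set_option linter.unusedSectionVars false

universe u

namespace CfsgLib.StrongClosure34

open Cfsg MulAction CfsgLib.UnitaryThree CfsgLib.RankOneClassify CfsgLib.RankOneSetup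

section Torus

variable {F : Type*} [Field F] [Fintype F] {q : ℕ}

/-- A norm-one scalar which is no cube root of unity. -/
theorem exists_norm_one_cube (hF : Fintype.card F = q ^ 2) (hq : 4 ≤ q) :
    ∃ c : F, c ^ (q + 1) = 1 ∧ c ^ 3 ≠ 1 := by
  obtain ⟨g, hg⟩ := IsCyclic.exists_ofOrder_eq_natCard (α := Fˣ)
  rw [Nat.card_units, Nat.card_eq_fintype_card, hF] at hg
  have he : q ^ 2 - 1 = (q - 1) * (q + 1) := by
    rw [Nat.sub_mul, one_mul, mul_add, mul_one, ← sq]
    omega
  have ho : orderOf (g ^ (q - 1)) = q + 1 := by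
    rw [orderOf_pow_of_dvd (by omega) (hg ▸ he ▸ dvd_mul_right _ _), hg, he,
      Nat.mul_div_cancel_left _ (by omega)]
  refine ⟨((g ^ (q - 1) : Fˣ) : F), ?_, fun h => ?_⟩
  · rw [← Units.val_pow_eq_pow_val, ← ho, pow_orderOf_eq_one, Units.val_one]
  · have h3 : (g ^ (q - 1)) ^ 3 = 1 := Units.ext (by rw [Units.val_pow_eq_pow_val, h, Units.val_one])
    have := Nat.le_of_dvd (by norm_num) (ho ▸ orderOf_dvd_of_pow_eq_one h3)
    omega

/-- The matrix `diag (c, c, c⁻²)`. -/
def torusMat (c : F) : Matrix (Fin 3) (Fin 3) F := !![c, 0, 0; 0, c, 0; 0, 0, (c * c)⁻¹]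

theorem exists_torus_SU (d : CfsgLib.UnitaryThree.Data F q) (hq : 4 ≤ q) :
    ∃ x : ↥(Cfsg.SU 3 F q), Model.rep d x ≠ 1 ∧ Model.rep d x none = none ∧
      Model.rep d x (some 1) = some 1 ∧ ∀ u : uni d, coA u = 0 → x * u = (u : ↥(Cfsg.SU 3 F q)) * x := by
  obtain ⟨c, hc, hc3⟩ := exists_norm_one_cube d.card hq
  have hc0 : c ≠ 0 := fun h => by rw [h, zero_pow (by omega)] at hc; exact zero_ne_one hc
  have hq0 : q ≠ 0 := d.q_pos.ne'
  have hcc : c * c ^ q = 1 := by rw [← pow_succ', hc]
  have hdet : (torusMat c).det = 1 := by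
    rw [Matrix.det_fin_three]
    simp [torusMat]
    field_simp
  have horth : CfsgLib.Unitary.Orthonorm q (CfsgLib.Unitary.cols (torusMat c)) := by
    intro i j
    fin_cases i <;> fin_cases j <;>
      simp [CfsgLib.Unitary.cols, torusMat, hermForm, Fin.sum_univ_three, hcc, hq0]
    rw [← mul_inv, inv_pow, ← mul_inv, mul_pow,
      show c * c * (c ^ q * c ^ q) = c * c ^ q * (c * c ^ q) by ring, hcc, one_mul, inv_one]
  let x : ↥(Cfsg.SU 3 F q) := ⟨⟨torusMat c, hdet⟩,
    CfsgLib.Unitary.mem_SU.2 ((CfsgLib.Unitary.preserves_iff_orthonorm_cols d.card _).2 horth)⟩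
  have hsv : ∀ v, CfsgLib.Unitary.sv x v = (torusMat c).mulVec v := fun v => rfl
  refine ⟨x, fun h => ?_, ?_, ?_, fun u hu => mat_ext ?_⟩
  · have hcen : x ∈ Subgroup.center ↥(Cfsg.SU 3 F q) := by
      rw [← Model.ker_rep d, MonoidHom.mem_ker, h]
    obtain ⟨e, he⟩ := (CfsgLib.Unitary.mem_center_SU_iff d.card (by norm_num) x).1 hcen
    have h0 : c = e := by
      have h0' := congrFun (congrFun he 0) 0
      simp [x, torusMat] at h0'
      exact h0'
    have h2 : (c * c)⁻¹ = e := by
      have h2' := congrFun (congrFun he 2) 2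
      simp [x, torusMat] at h2'
      rw [mul_inv]; exact h2'
    refine hc3 ?_
    rw [← h0] at h2
    calc c ^ 3 = c * c * c := by ring
      _ = c * c * (c * c)⁻¹ := by rw [h2]
      _ = 1 := mul_inv_cancel₀ (mul_ne_zero hc0 hc0)
  · refine Model.act_eq (l := c) ?_
    rw [hsv]
    funext i
    fin_cases i <;> simp [Model.pvec, Model.vE, torusMat, Matrix.mulVec, dotProduct, Fin.sum_univ_three]
  · refine Model.act_eq (l := c) ?_
    rw [hsv]
    funext i
    fin_cases i <;>
      simp [Model.pvec, Model.vP, Model.vE, Model.vF, Model.vG, torusMat, Matrix.mulVec, dotProduct,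
        Fin.sum_univ_three]
  · rw [mat_mul, mat_mul, mat_eq u, hu]
    show torusMat c * _ = _ * torusMat c
    ext i j
    fin_cases i <;> fin_cases j <;>
      simp [torusMat, uniMat, hq0, Matrix.mul_apply, Fin.sum_univ_three, mul_comm]

end Torus

variable {G Ω : Type u} [Group G] [Finite G] [MulAction G Ω] {a : Ω} {t : G} {Q : Subgroup G}

/-- An element of `D` centralising the involutions of `Q`, when `|Q| = q³`. -/
theorem exists_centralizing (hd : RankOneClassify.Data G Ω a t Q)
    (hN : Nat.card Q = qNum G Ω a ^ 3) :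
    ∃ y ∈ Vg a t, y ≠ 1 ∧ ∀ z ∈ hd.ESub, y * z = z * y := by
  classical
  haveI := hd.faithful
  obtain ⟨hord, -, hline, hcoord⟩ := RankOneClassify.pieces.{u, u} G Ω
  have hne : Nat.card Q ≠ qNum G Ω a := by
    rw [hN]
    exact (lt_self_pow₀ (by have := hd.four_le_q; omega) (by norm_num)).ne'
  obtain ⟨F, hFi, hFt, n, d, ψ, hn, -, hmap⟩ :=
    hcoord a t Q hd hN ((hord a t Q hd).2 hne) (hline a t Q hd hN)
  letI := hFi
  letI := hFt
  have hS := hd.setup
  have hexu : ∀ c : Ω, c ≠ a → ∃! q : G, q ∈ Q ∧ q • t • a = c := fun c => existsUnique_from_b hS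
  have hpt : ∀ x : Q, (x : G) • t • a ≠ a := fun x => smul_ne hS (smul_a hS x.2) (b_ne hS)
  let f : Option (uni d) → Ω := fun p => p.elim a fun u => ((ψ.symm u : Q) : G) • t • a
  have hf : Function.Bijective f := by
    constructor
    · rintro (_ | u) (_ | w) h
      · rfl
      · exact absurd h.symm (hpt _)
      · exact absurd h (hpt _)
      · obtain ⟨r, -, hu⟩ := hexu _ (hpt (ψ.symm u))
        exact congrArg some (ψ.symm.injective (Subtype.ext
          ((hu _ ⟨(ψ.symm u).2, rfl⟩).trans (hu _ ⟨(ψ.symm w).2, h.symm⟩).symm)))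
    · intro c
      by_cases hc : c = a
      · exact ⟨none, hc.symm⟩
      · obtain ⟨r, ⟨hr, hrc⟩, -⟩ := hexu c hc
        exact ⟨some (ψ ⟨r, hr⟩), by simp [f, hrc]⟩
  let e : Ω ≃ Option (uni d) := (Equiv.ofBijective f hf).symm
  have hes : ∀ p, e.symm p = f p := fun p => rfl
  have hef : ∀ p, e (f p) = p := fun p => (Equiv.ofBijective f hf).symm_apply_apply p
  have hf1 : f (some 1) = t • a := by simp [f]
  let ρ : G →* Equiv.Perm (Option (uni d)) :=
    e.permCongrHom.toMonoidHom.comp (MulAction.toPermHom G Ω)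
  have hρ : ∀ (g : G) p, ρ g p = e (g • e.symm p) := fun g p => rfl
  have hinj : Function.Injective ρ := fun g h hgh => eq_of_smul_eq_smul (α := Ω) fun ω => by
    have := congrArg (fun σ : Equiv.Perm (Option (uni d)) => σ (e ω)) hgh
    simp only [hρ, Equiv.symm_apply_apply, EmbeddingLike.apply_eq_iff_eq] at this
    exact this
  have hQ : ∀ x : Q, ρ (x : G) = Model.rep d (ψ x : ↥(Cfsg.SU 3 F (2 ^ n))) := fun x =>
    Equiv.ext fun p => by
      cases p with
      | none =>
        rw [hρ, Model.rep_uni_none, hes, show (x : G) • f none = f none from smul_a hS x.2, hef]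
      | some w =>
        rw [hρ, Model.rep_uni_some, hes, ← hef (some (ψ x * w))]
        congr 1
        simp [f, mul_smul]
  have ht : ρ t = Model.rep d (Model.flipSU d) := Equiv.ext fun p => by
    cases p with
    | none => rw [hρ, Model.rep_flip_none, hes, show t • f none = t • a from rfl, ← hf1, hef]
    | some w =>
      by_cases hw : w = 1
      · subst hw
        rw [hρ, Model.rep_flip_one, hes, hf1, t_b hS, show a = f none from rfl, hef]
      · obtain ⟨y, hy, hyA, hyB⟩ := hmap (ψ.symm w) (by simpa using hw)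
        have hψy : ψ y = Model.flip w := by
          refine uni_ext ?_ ?_
          · rw [hyA, ψ.apply_symm_apply, Model.coA_flip hw]
          · rw [hyB, ψ.apply_symm_apply, Model.coB_flip hw]
        rw [hρ, Model.rep_flip_some hw, hes,
          show t • f (some w) = (y : G) • t • a from hy, ← hψy, ← hef (some (ψ y))]
        congr 1
        simp [f]
  have h4 : 4 ≤ 2 ^ n := le_trans (by norm_num) (Nat.pow_le_pow_right two_pos hn)
  obtain ⟨x, hx1, hxn, hxs, hxc⟩ := exists_torus_SU d h4
  have hrange : (uni d ⊔ Subgroup.zpowers (Model.flipSU d)).map (Model.rep d) ≤ ρ.range := by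
    rw [Subgroup.map_sup, MonoidHom.map_zpowers]
    refine sup_le ?_ (Subgroup.zpowers_le.2 ⟨t, ht⟩)
    rintro _ ⟨u, hu, rfl⟩
    exact ⟨((ψ.symm ⟨u, hu⟩ : Q) : G), by rw [hQ, ψ.apply_symm_apply]⟩
  obtain ⟨g, hg⟩ : Model.rep d x ∈ ρ.range :=
    hrange ⟨x, by rw [Model.closure_eq_top d (by omega)]; trivial, rfl⟩
  have hga : g • a = a := by
    have h := congrArg (fun σ : Equiv.Perm (Option (uni d)) => σ none) hg
    simp only [hρ, hxn] at h
    rw [hes, show f none = a from rfl, show (none : Option (uni d)) = e a from (hef none).symm] at h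
    exact e.injective h
  have hgb : g • t • a = t • a := by
    have h := congrArg (fun σ : Equiv.Perm (Option (uni d)) => σ (some 1)) hg
    simp only [hρ, hxs] at h
    rw [hes, hf1, show some (1 : uni d) = e (t • a) from (hf1 ▸ hef (some 1)).symm] at h
    exact e.injective h
  have hgD : g ∈ Dg a t := ⟨hga, hgb⟩
  have hcent : ∀ z ∈ hd.ESub, g * z = z * g := by
    intro z hz
    refine hinj ?_
    rw [map_mul, map_mul, hg, show ρ z = _ from hQ ⟨z, hz.1⟩, ← map_mul, ← map_mul, hxc]
    have h2 : ψ ⟨z, hz.1⟩ * ψ ⟨z, hz.1⟩ = 1 := by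
      rw [← map_mul, show (⟨z, hz.1⟩ : Q) * ⟨z, hz.1⟩ = 1 from Subtype.ext hz.2, map_one]
    set u := ψ ⟨z, hz.1⟩
    have hb := congrArg coB h2
    rw [coB_mul, coB_one, show coB u + coB u = 0 by linear_combination coB u * d.two, zero_add,
      ← pow_succ] at hb
    exact eq_zero_of_pow_eq_zero hb
  obtain ⟨z, hz, -, hzV⟩ := hd.exists_central_V
  refine ⟨g, (hzV g hgD).2 (hcent z hz), fun h => hx1 ?_, hcent⟩
  rw [← hg, h, map_one]

end CfsgLib.StrongClosure34
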