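import Cfsg.Agent.StrongClosure34.Hyp
import Cfsg.Agent.StrongClosure34.Model
import Cfsg.Agent.RankOne.Classify.GlueBender
import Cfsg.Agent.RankOne.Classify.AllPPlusProof
import Cfsg.Agent.GoldProduct.Factor

/-!
The case of 2-rank at least two: the normal subgroup `K` generated by the conjugates of the
involutions of `S` is one of the simple groups of 2-rank-one Lie type, `S` lies in it, and `S` is
its Sylow 2-subgroup or the group of involutions of that subgroup.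
-/

set_option autoImplicit false
set_option linter.style.haveILetI false

universe u

namespace CfsgLib.StrongClosure34

open Cfsg MulAction CfsgLib.StronglyEmbedded CfsgLib.RankOneClassify CfsgLib.RankOneSetup

variable {G : Type u} [Group G] [Finite G] {T : Sylow 2 G} {S H K : Subgroup G}

theorem rankTwo_subgroup {L : Subgroup G} (h2 : RankTwoIn S)
    (hL : ∀ x ∈ S, orderOf x = 2 → x ∈ L) : CfsgLib.StrongEmb.RankTwo L := by
  obtain ⟨a, ha, b, hb, hao, hbo, hab, hc⟩ := h2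
  exact ⟨⟨a, hL a ha hao⟩, ⟨b, hL b hb hbo⟩, (Subgroup.orderOf_mk a _).trans hao,
    (Subgroup.orderOf_mk b _).trans hbo, fun e => hab (congrArg Subtype.val e), Subtype.ext hc.eq⟩

/-- Every involution of `H ∩ K` is conjugate into `S`, provided those of `T ∩ K` lie in `S`. -/
theorem stronglyEmbedded_of_invol (h : Hyp T S H) {z : G} (hz : orderOf z = 2)
    {L : Subgroup G} (hzL : z ∈ L) (hzT : z ∈ (T : Subgroup G)) (hL : ¬ L ≤ H)
    (hinv : ∀ t ∈ L, t ∈ H → orderOf t = 2 → ∃ k ∈ H, k * t * k⁻¹ ∈ S) :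
    IsStronglyEmbedded (H.subgroupOf L) := by
  refine intro_of_conj_mem (fun e => hL (Subgroup.subgroupOf_eq_top.1 e))
    (even_card_of_mem (t := ⟨z, hzL⟩) ((Subgroup.orderOf_mk z _).trans hz) (h.le_H hzT)) ?_
  rintro ⟨t, htL⟩ ⟨g, hgL⟩ ht htH hg
  rw [Subgroup.orderOf_mk] at ht
  obtain ⟨k, hk, hks⟩ := hinv t htL htH ht
  have h1 : g * k⁻¹ ∈ H := h.control _ hks (ne_one_of_orderOf_two (by rw [orderOf_conj, ht])) _ (by
    rw [show g * k⁻¹ * (k * t * k⁻¹) * (g * k⁻¹)⁻¹ = g * t * g⁻¹ by group]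
    exact hg)
  have := H.mul_mem h1 hk
  rwa [inv_mul_cancel_right] at this

/-- An odd-order normal subgroup of a normal subgroup is trivial when `O(G) = 1`. -/
theorem eq_bot_of_odd_normal (hO : pPrimeCore 2 G = ⊥) {L : Subgroup G} [L.Normal]
    {C : Subgroup L} (hC : C.Normal) (hodd : Odd (Nat.card C)) : C = ⊥ := by
  haveI : Fact (Nat.Prime 2) := ⟨Nat.prime_two⟩
  have hle := (Subgroup.map_mono (f := L.subtype)
    (Constrained.le_pPrimeCore_of_not_dvd (p := 2) hC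
      (fun h => Nat.not_even_iff_odd.2 hodd (even_iff_two_dvd.2 h)))).trans
    (Constrained.map_pPrimeCore_subgroup_le L)
  rw [hO, le_bot_iff, Subgroup.map_eq_bot_iff_of_injective _ L.subtype_injective] at hle
  exact hle

/-- `S` lies in `K` when it contains the Sylow subgroup of `K`. -/
theorem le_of_sylow_le (h : Hyp T S H) (h2 : RankTwoIn S) (hO : pPrimeCore 2 G = ⊥) [K.Normal]
    (hinvS : ∀ x ∈ S, orderOf x = 2 → x ∈ K) (hgen : K ≤ Subgroup.closure {x | orderOf x = 2 ∧ x ∈ K})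
    (hconjK : ∀ x ∈ S, orderOf x = 2 → ∀ g : G, g * x * g⁻¹ ∈ K)
    (hKH : ¬ K ≤ H) (hTK : ∀ x ∈ (T : Subgroup G), x ∈ K → x ∈ S) : S ≤ K := by
  haveI : Fact (Nat.Prime 2) := ⟨Nat.prime_two⟩
  intro s hs
  set π := QuotientGroup.mk' K with hπ
  set L := (Subgroup.zpowers (π s)).comap π with hL
  have hKL : K ≤ L := fun x hx => by
    rw [hL, Subgroup.mem_comap, show π x = 1 from (QuotientGroup.eq_one_iff x).2 hx]
    exact one_mem _
  have hsL : s ∈ L := Subgroup.mem_zpowers (π s)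
  have hdec : ∀ x ∈ L, ∃ m : ℤ, x * (s ^ m)⁻¹ ∈ K := by
    intro x hx
    obtain ⟨m, hm⟩ := Subgroup.mem_zpowers_iff.1 (Subgroup.mem_comap.1 hx)
    refine ⟨m, (QuotientGroup.eq_one_iff _).1 ?_⟩
    show π (x * (s ^ m)⁻¹) = 1
    rw [map_mul, map_inv, map_zpow, hm, mul_inv_cancel]
  -- a Sylow subgroup of `L` inside `T`
  have hp : IsPGroup 2 (((T : Subgroup G) ⊓ L).subgroupOf L) :=
    (T.2.to_le inf_le_left).of_equiv (Subgroup.subgroupOfEquivOfLe inf_le_right).symm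
  obtain ⟨P, hP⟩ := hp.exists_le_sylow
  have hPS : ∀ x ∈ (P : Subgroup L), (x : G) ∈ S := by
    intro x hx
    obtain ⟨m, hm⟩ := hdec x x.2
    have hsP : (⟨s, hsL⟩ : L) ∈ (P : Subgroup L) :=
      hP (show (⟨s, hsL⟩ : L) ∈ ((T : Subgroup G) ⊓ L).subgroupOf L from ⟨h.closed.1 hs, hsL⟩)
    have hk : x * (⟨s, hsL⟩ ^ m)⁻¹ ∈ (P : Subgroup L) := mul_mem hx (inv_mem (zpow_mem hsP m))
    obtain ⟨R, hR⟩ := exists_sylow_normal T K
    have hle : (R : Subgroup K) ≤ ((P : Subgroup L).map L.subtype).subgroupOf K := by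
      intro y hy
      have hy' : (y : G) ∈ (T : Subgroup G) ⊓ K := hR ▸ ⟨y, hy, rfl⟩
      exact ⟨⟨y, hKL y.2⟩, hP (show (⟨(y : G), hKL y.2⟩ : L) ∈
        ((T : Subgroup G) ⊓ L).subgroupOf L from ⟨hy'.1, hKL y.2⟩), rfl⟩
    have heq := R.3 ((P.2.map L.subtype).comap_of_injective K.subtype K.subtype_injective) hle
    have hkK : (⟨_, hm⟩ : K) ∈ (R : Subgroup K) := by
      rw [← heq]
      exact ⟨_, hk, rfl⟩
    have hkT : (x : G) * (s ^ m)⁻¹ ∈ (T : Subgroup G) ⊓ K := hR ▸ ⟨_, hkK, rfl⟩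
    have := S.mul_mem (hTK _ hkT.1 hkT.2) (S.zpow_mem hs m)
    rwa [inv_mul_cancel_right] at this
  -- all involutions of `L` lie in `K`
  have hinvL : ∀ t ∈ L, orderOf t = 2 → t ∈ K := by
    intro t htL ht
    have hp' : IsPGroup 2 (Subgroup.zpowers (⟨t, htL⟩ : L)) :=
      isPGroup_zpowers_of_mul_self (Subtype.ext (mul_self_eq_one ht))
    obtain ⟨R, hR⟩ := hp'.exists_le_sylow
    obtain ⟨c, hc⟩ := MulAction.exists_smul_eq L R P
    have h1 : c * ⟨t, htL⟩ * c⁻¹ ∈ (P : Subgroup L) := by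
      rw [← hc, Sylow.coe_subgroup_smul, Subgroup.mem_pointwise_smul_iff_inv_smul_mem]
      simpa [MulAut.smul_def, mul_assoc] using hR (Subgroup.mem_zpowers (⟨t, htL⟩ : L))
    have h2 : (c : G) * t * (c : G)⁻¹ ∈ S := hPS _ h1
    have := hconjK _ h2 (by rw [orderOf_conj, ht]) (c : G)⁻¹
    rwa [show (c : G)⁻¹ * ((c : G) * t * (c : G)⁻¹) * (c : G)⁻¹⁻¹ = t by group] at this
  obtain ⟨z, hzS, hz⟩ := h.exists_involution
  have hLH : ¬ L ≤ H := fun e => hKH (hKL.trans e)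
  have hSE : IsStronglyEmbedded (H.subgroupOf L) := by
    refine stronglyEmbedded_of_invol h hz (hKL (hinvS z hzS hz)) (h.closed.1 hzS) hLH
      fun t htL htH ht => ?_
    obtain ⟨k, hk, hc⟩ := exists_conj_mem h.le_H (mul_self_eq_one ht) htH
    exact ⟨k, hk, hTK _ hc ((inferInstance : K.Normal).conj_mem t (hinvL t htL ht) k)⟩
  have hr2 : CfsgLib.StrongEmb.RankTwo L := rankTwo_subgroup h2 fun x hx ho => hKL (hinvS x hx ho)
  have hcore : (H.subgroupOf L).normalCore = ⊥ := by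
    set C := (H.subgroupOf L).normalCore with hC
    have hCodd : Odd (Nat.card C) := odd_card_of_normal_le hSE (Subgroup.normalCore_le _)
    have hCK : ∀ c ∈ C, (c : G) ∈ K := by
      intro c hc
      refine (QuotientGroup.eq_one_iff _).1 (eq_one_of_two_of_odd
        (isPGroup_zpowers_of_pow (k := (exists_pow_two_pow T.2 (h.closed.1 hs)).choose) (x := π s) ?_)
        (x := π (c : G)) c.2 ?_)
      · rw [← map_pow, (exists_pow_two_pow T.2 (h.closed.1 hs)).choose_spec, map_one]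
      · refine (hCodd.of_dvd_nat ?_).of_dvd_nat (orderOf_map_dvd π _)
        rw [Subgroup.orderOf_coe]
        exact Subgroup.orderOf_dvd_natCard _ hc
    let C' : Subgroup K := C.comap (Subgroup.inclusion hKL)
    have hC' : C' = ⊥ := eq_bot_of_odd_normal hO
      ((Subgroup.normalCore_normal _).comap (Subgroup.inclusion hKL))
      (hCodd.of_dvd_nat (Subgroup.card_comap_dvd_of_injective C (Subgroup.inclusion hKL)
        (Subgroup.inclusion_injective hKL)))
    refine (Subgroup.eq_bot_iff_forall _).2 fun c hc => ?_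
    have h1 : (⟨c, hCK c hc⟩ : K) ∈ C' := hc
    rw [hC', Subgroup.mem_bot] at h1
    exact Subtype.ext (congrArg (fun x : K => (x : G)) h1)
  obtain ⟨Q, hQ, -, -⟩ := allPPlus L (H.subgroupOf L) hSE hr2 hcore
  obtain ⟨-, hsimple, -⟩ := list_of_conclusion
    (conclusion_of_regularOff RankOneClassify.pieces hSE hr2 hcore hQ)
    ((even_iff_two_dvd.mpr ((even_iff_two_dvd.mp hSE.2.1).trans (Subgroup.card_subgroup_dvd_card _))))
  have htop : Cfsg.pElementClosure 2 (⊤ : Subgroup L) = ⊤ := by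
    refine eq_top_iff.2 fun x _ => ?_
    obtain ⟨m, hm⟩ := hdec x x.2
    have hsmem : (⟨s, hsL⟩ : L) ∈ Cfsg.pElementClosure 2 (⊤ : Subgroup L) := by
      obtain ⟨k, hk⟩ := CfsgLib.IsolatedPoint.orderOf_eq_two_pow T.2 (h.closed.1 hs)
      exact Subgroup.subset_closure ⟨trivial, k, (Subgroup.orderOf_mk s hsL).trans hk⟩
    have hK' : K ≤ (Cfsg.pElementClosure 2 (⊤ : Subgroup L)).map L.subtype := by
      refine hgen.trans ((Subgroup.closure_le _).2 ?_)
      rintro y ⟨hy, hyK⟩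
      exact ⟨⟨y, hKL hyK⟩, Subgroup.subset_closure
        ⟨trivial, 1, by rw [Subgroup.orderOf_mk, hy, pow_one]⟩, rfl⟩
    obtain ⟨y, hy, hye⟩ := hK' hm
    have : x = y * ⟨s, hsL⟩ ^ m := Subtype.ext (by
      rw [Subgroup.coe_mul, SubgroupClass.coe_zpow, show (y : G) = _ from hye,
        inv_mul_cancel_right])
    rw [this]
    exact mul_mem hy (zpow_mem hsmem m)
  have hsL' : IsSimpleGroup L := by
    haveI := hsimple
    exact ((MulEquiv.subgroupCongr htop).trans Subgroup.topEquiv).symm.isSimpleGroup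
  rcases ((inferInstance : K.Normal).subgroupOf L).eq_bot_or_eq_top with e | e
  · have h1 : (⟨z, hKL (hinvS z hzS hz)⟩ : L) ∈ K.subgroupOf L := hinvS z hzS hz
    rw [e, Subgroup.mem_bot] at h1
    exact absurd (congrArg Subtype.val h1) (ne_one_of_orderOf_two hz)
  · exact (Subgroup.subgroupOf_eq_top.1 e) hsL

/-- The theorem when `O(G) = 1`. -/
theorem conc_of_core (h : Hyp T S H) (h2 : RankTwoIn S) (hO : pPrimeCore 2 G = ⊥) : Conc T S := by
  classical
  haveI : Fact (Nat.Prime 2) := ⟨Nat.prime_two⟩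
  set K := Subgroup.closure (invSet S) with hK
  haveI hKn : K.Normal := CfsgLib.GoldProduct.closure_normal_of_invariant
    fun x hx g => h.setting.conj_mem g x hx
  have hinvS : ∀ x ∈ S, orderOf x = 2 → x ∈ K := fun x hx ho =>
    Subgroup.subset_closure (mem_invSet hx ho)
  have hgen : K ≤ Subgroup.closure {x | orderOf x = 2 ∧ x ∈ K} :=
    Subgroup.closure_mono fun x hx => ⟨hx.1, Subgroup.subset_closure hx⟩
  have hconjK : ∀ x ∈ S, orderOf x = 2 → ∀ g : G, g * x * g⁻¹ ∈ K := fun x hx ho g =>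
    hKn.conj_mem x (hinvS x hx ho) g
  obtain ⟨z, hzS, hz⟩ := h.exists_involution
  have hzK := hinvS z hzS hz
  have hKH : ¬ K ≤ H := h.not_normal_le hzS (ne_one_of_orderOf_two hz) hzK
  -- the criterion inside `K`
  set H' := H.subgroupOf K with hH'
  obtain ⟨R, hR⟩ := exists_sylow_normal T K
  have hRmem : ∀ y : K, y ∈ (R : Subgroup K) ↔ (y : G) ∈ (T : Subgroup G) := by
    intro y
    constructor
    · intro hy
      have : (y : G) ∈ (T : Subgroup G) ⊓ K := hR ▸ ⟨y, hy, rfl⟩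
      exact this.1
    · intro hy
      have : (y : G) ∈ (R : Subgroup K).map K.subtype := hR.symm ▸ ⟨hy, y.2⟩
      obtain ⟨y', hy', he⟩ := this
      rwa [← show y' = y from Subtype.ext he]
  have hRH : (R : Subgroup K) ≤ H' := fun y hy => h.le_H ((hRmem y).1 hy)
  have hset : CfsgLib.Criterion.Setting H' ((fun y : K => (y : G)) ⁻¹' invSet S) := by
    have hs := h.setting
    refine ⟨fun e => hKH (Subgroup.subgroupOf_eq_top.1 e), ?_, fun y hy => ?_, fun g y hy => ?_,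
      ⟨⟨z, hzK⟩, mem_invSet hzS hz, h.le_H (h.closed.1 hzS)⟩,
      fun y hy hyH g hg => hs.mem_of_conj_mem _ hy hyH _ hg, fun y hy w hw hc hne => ?_⟩
    · exact Nat.odd_iff.2 (Nat.two_dvd_ne_zero.1 fun hd =>
        R.not_dvd_index (hd.trans (Subgroup.index_dvd_of_le hRH)))
    · rw [← Subgroup.orderOf_coe]; exact hs.order_two _ hy
    · exact hs.conj_mem (g : G) _ hy
    · exact hs.mul_mem _ hy _ hw (congrArg Subtype.val hc.eq) fun e => hne (Subtype.ext e)
  have hgenK : Subgroup.closure ((fun y : K => (y : G)) ⁻¹' invSet S) = ⊤ :=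
    Subgroup.closure_closure_coe_preimage
  have hSE : IsStronglyEmbedded H' := hset.stronglyEmbedded hgenK
  have hr2 : CfsgLib.StrongEmb.RankTwo K := rankTwo_subgroup h2 hinvS
  have hcore : H'.normalCore = ⊥ := eq_bot_of_odd_normal hO (Subgroup.normalCore_normal _)
    (odd_card_of_normal_le hSE (Subgroup.normalCore_le _))
  obtain ⟨Q, hQ, hQ2, -⟩ := allPPlus K H' hSE hr2 hcore
  -- `Q` is the trace of `T`
  have hQR : Q = (R : Subgroup K) := by
    haveI : (Q.comap H'.subtype).Normal := hQ.2.1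
    have hle : Q.subgroupOf H' ≤ ((R.subtype hRH : Sylow 2 H') : Subgroup H') :=
      IsPGroup.le_sylow_of_normal
        (hQ2.comap_of_injective H'.subtype H'.subtype_injective : IsPGroup 2 (Q.subgroupOf H')) _
    obtain ⟨P, hP⟩ := exists_sylow_eq_regular hSE hQ hQ2
    have hQR' : Q ≤ (R : Subgroup K) := by
      intro y hy
      have := hle (show (⟨y, hQ.1 hy⟩ : H') ∈ Q.subgroupOf H' from hy)
      rwa [Sylow.coe_subtype] at this
    rw [← hP] at hQR' ⊢
    exact (P.3 R.2 hQR').symm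
  have hQmem : ∀ y : K, y ∈ Q ↔ (y : G) ∈ (T : Subgroup G) := fun y => by rw [hQR, hRmem]
  -- the rank-one set-up
  obtain ⟨t, ht, htH⟩ := CfsgLib.StrongEmb.exists_involution_not_mem hSE
  have hS1 := CfsgLib.StrongEmb.isRankOneSetup hSE hQ ht htH
  set a₀ : K ⧸ H' := ((1 : K) : K ⧸ H') with ha₀
  have hst : stabilizer K a₀ = H' := MulAction.stabilizer_quotient H'
  have hd : RankOneClassify.Data K (K ⧸ H') a₀ t Q :=
    ⟨hS1, CfsgLib.StrongEmb.faithfulSMul_quotient hcore, hr2.exists_pair, hQ2⟩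
  haveI := hd.faithful
  have hQst : ∀ k : K, (k : G) ∈ H → ∀ x ∈ Q, k * x * k⁻¹ ∈ Q := fun k hk x hx =>
    hS1.conj_mem k (hst.symm ▸ (show k ∈ H' from hk)) x hx
  -- `E ⊆ S`
  have hzQ : (⟨z, hzK⟩ : K) ∈ Q := (hQmem _).2 (h.closed.1 hzS)
  have hzE : (⟨z, hzK⟩ : K) ∈ hd.ESub := ⟨hzQ, Subtype.ext (mul_self_eq_one hz)⟩
  have hz1 : (⟨z, hzK⟩ : K) ≠ 1 := fun e => ne_one_of_orderOf_two hz (congrArg Subtype.val e)
  set M := S.subgroupOf K with hM
  have hMQ : M ≤ Q := fun y hy => (hQmem y).2 (h.closed.1 hy)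
  have hEM : hd.ESub ≤ M := by
    intro e he
    by_cases he1 : e = 1
    · rw [he1]; exact one_mem _
    obtain ⟨c, -, hc⟩ := hd.K_trans hzE hz1 he he1
    rw [← hc]
    have hT : ((c * ⟨z, hzK⟩ * c⁻¹ : K) : G) ∈ (T : Subgroup G) := by
      rw [hc]; exact (hQmem e).1 he.1
    exact h.closed.2 z hzS (c : G) hT
  have hMinv : ∀ k : K, (k : G) ∈ H → ∀ x ∈ M, k * x * k⁻¹ ∈ M := fun k hk x hx =>
    h.closed.2 _ hx (k : G) ((hQmem _).1 (hQst k hk x (hMQ hx)))
  have hDH : ∀ d ∈ Dg a₀ t, (d : G) ∈ H := fun d hd' => by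
    have : d ∈ H' := hst ▸ hd'.1
    exact this
  -- the two possibilities
  obtain ⟨hord, hnab⟩ := (RankOneClassify.pieces.{u, u} K (K ⧸ H')).1 a₀ t Q hd
  have hcases : M = Q ∨ M = hd.ESub := by
    set q := qNum K (K ⧸ H') a₀ with hq
    obtain ⟨r, hr, hqr⟩ := hd.exists_q_pow
    rw [← hq] at hqr
    have hq4 : 4 ≤ q := hd.four_le_q
    obtain ⟨i, hi⟩ := IsPGroup.iff_card.1 (hQ2.to_le hMQ)
    obtain ⟨j, rfl⟩ : r ∣ i := dvd_of_pow_sub_one_dvd (by
      have := hd.card_K_dvd M hMQ fun c hc x hx => hMinv c (hDH c (hd.K_le hc)) x hx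
      rwa [← hq, hqr, hi] at this)
    have hMj : Nat.card M = q ^ j := by rw [hi, hqr, pow_mul]
    have hj1 : 1 ≤ j := by
      have h1 := Subgroup.card_le_of_le hEM
      rw [hd.card_E, ← hq, hMj] at h1
      by_contra hj
      rw [show j = 0 by omega, pow_zero] at h1
      omega
    obtain ⟨k, hk3, hk⟩ : ∃ k, k ≤ 3 ∧ Nat.card Q = q ^ k := by
      rcases hord with e | e | e
      exacts [⟨1, by norm_num, by rw [pow_one]; exact e⟩, ⟨2, by norm_num, e⟩, ⟨3, le_rfl, e⟩]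
    have hjk : j ≤ k := by
      have h1 := Subgroup.card_le_of_le hMQ
      rw [hMj, hk] at h1
      exact (Nat.pow_le_pow_iff_right (by omega)).1 h1
    by_cases hjk' : j = k
    · exact Or.inl (Subgroup.eq_of_le_of_card_ge hMQ (by rw [hk, hMj, hjk']))
    by_cases hj : j = 1
    · exact Or.inr (Subgroup.eq_of_le_of_card_ge hEM (by rw [hMj, hj, pow_one, hd.card_E])).symm
    exfalso
    obtain rfl : k = 3 := by omega
    obtain rfl : j = 2 := by omega
    obtain ⟨hsq, -, -, -⟩ := hd.suzuki_facts (hd.not_comm_of_cube hk)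
    obtain ⟨y, hy, hy1, hyE⟩ := exists_centralizing hd hk
    have hall := hd.commute_of_card_le M hEM hMQ hMj.le (fun x hx => hsq x (hMQ hx))
      (fun c hc x hx => hMinv c (hDH c (hd.K_le hc)) x hx) hy.1
      (fun x hx => hMinv y (hDH y hy.1) x hx) hyE
    have hle : M ≤ hd.ESub := fun x hx =>
      hd.centralizer_of_centralizes_E hk hsq hy hy1 hyE (hMQ hx) (hall x hx)
    have h1 := Subgroup.card_le_of_le hle
    rw [hMj, hd.card_E, ← hq] at h1
    exact absurd h1 (Nat.not_le.2 (lt_self_pow₀ (by omega) (by norm_num)))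
  have hfinish : ∀ x ∈ (T : Subgroup G) ⊓ K, x * x = 1 → x ∈ S := by
    intro x hx hx2
    exact hEM (show (⟨x, hx.2⟩ : K) ∈ hd.ESub from ⟨(hQmem _).2 hx.1, Subtype.ext hx2⟩)
  rcases hcases with hMQ' | hME
  · -- `S` is the Sylow subgroup of `K`
    have hTK : ∀ x ∈ (T : Subgroup G), x ∈ K → x ∈ S := fun x hx hxK =>
      (hMQ' ▸ (hQmem ⟨x, hxK⟩).2 hx : (⟨x, hxK⟩ : K) ∈ M)
    have hSK := le_of_sylow_le h h2 hO hinvS hgen hconjK hKH hTK
    exact Or.inl (le_antisymm (le_inf h.closed.1 Subgroup.le_normalClosure) fun x hx =>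
      hTK x hx.1 (Subgroup.normalClosure_le_normal hSK hx.2))
  -- `S` is the group of involutions
  by_cases hEQ : hd.ESub = Q
  · have hTK : ∀ x ∈ (T : Subgroup G), x ∈ K → x ∈ S := fun x hx hxK =>
      hEM (hEQ.symm ▸ (hQmem ⟨x, hxK⟩).2 hx)
    have hSK := le_of_sylow_le h h2 hO hinvS hgen hconjK hKH hTK
    exact Or.inl (le_antisymm (le_inf h.closed.1 Subgroup.le_normalClosure) fun x hx =>
      hTK x hx.1 (Subgroup.normalClosure_le_normal hSK hx.2))
  have hne : Nat.card Q ≠ qNum K (K ⧸ H') a₀ := fun e =>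
    hEQ (Subgroup.eq_of_le_of_card_ge hd.E_le (by rw [hd.card_E, e]))
  have hnc : ∃ x ∈ Q, ∃ y ∈ Q, x * y ≠ y * x := by
    by_contra hcon
    push Not at hcon
    exact hnab hne ⟨⟨fun x y => Subtype.ext (hcon x x.2 y y.2)⟩⟩
  obtain ⟨hsq, -, -, -⟩ := hd.suzuki_facts hnc
  have hEinv : ∀ k : K, (k : G) ∈ H → ∀ e ∈ hd.ESub, k * e * k⁻¹ ∈ hd.ESub := fun k hk e he =>
    ⟨hQst k hk e he.1, by
      rw [show k * e * k⁻¹ * (k * e * k⁻¹) = k * (e * e) * k⁻¹ by group, he.2]; group⟩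
  have hmem : ∀ (v : G) (hv : v ∈ K), v ∈ S → (⟨v, hv⟩ : K) ∈ hd.ESub := fun v hv hvS =>
    hME ▸ (show (⟨v, hv⟩ : K) ∈ M from hvS)
  let σ : G → K → K := fun g x => ⟨g * x * g⁻¹, hKn.conj_mem x x.2 g⟩
  have hσ : ∀ s ∈ S, ∀ x ∈ Q, ∃ e ∈ hd.ESub, σ s x = e * x := by
    intro s hs x hx
    have hxT := (hQmem x).1 hx
    have hv : s * x * s⁻¹ * (x : G)⁻¹ ∈ S := by
      rw [show s * (x : G) * s⁻¹ * (x : G)⁻¹ = s * ((x : G) * s⁻¹ * (x : G)⁻¹) by group]
      exact S.mul_mem hs (conj_mem_of_closed h.closed hxT (S.inv_mem hs))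
    have hvK : s * x * s⁻¹ * (x : G)⁻¹ ∈ K := K.mul_mem (hKn.conj_mem _ x.2 s) (K.inv_mem x.2)
    exact ⟨_, hmem _ hvK hv, Subtype.ext (by
      show s * (x : G) * s⁻¹ = s * x * s⁻¹ * (x : G)⁻¹ * x
      group)⟩
  have hrmod : ∀ r ∈ Q, ∀ x ∈ Q, r * x * r⁻¹ * x⁻¹ ∈ hd.ESub := by
    intro r hr x hx
    have hc : Commute x⁻¹ (r * r)⁻¹ := (hd.E_comm (inv_mem (hsq r hr)) (inv_mem hx)).symm
    rw [show r * x * r⁻¹ * x⁻¹ = r * x * (r * x) * ((x⁻¹ * (r * r)⁻¹) * x⁻¹) by group, hc.eq,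
      show r * x * (r * x) * ((r * r)⁻¹ * x⁻¹ * x⁻¹) = r * x * (r * x) * (r * r)⁻¹ * (x * x)⁻¹
        by group]
    exact mul_mem (mul_mem (hsq _ (mul_mem hr hx)) (inv_mem (hsq r hr))) (inv_mem (hsq x hx))
  -- commutators of `H ∩ K` with `S`
  have hcommE : ∀ k : K, (k : G) ∈ H → ∀ s ∈ S, ∀ hmemK : (k : G) * s * (k : G)⁻¹ * s⁻¹ ∈ K,
      (⟨_, hmemK⟩ : K) ∈ hd.ESub := by
    intro k hk s hs hmemK
    set k₀ : K := ⟨_, hmemK⟩ with hk₀
    have hk₀H : (k₀ : G) ∈ H :=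
      H.mul_mem (H.mul_mem (H.mul_mem hk (h.le_H (h.closed.1 hs))) (H.inv_mem hk))
        (H.inv_mem (h.le_H (h.closed.1 hs)))
    have hact : ∀ x ∈ Q, ∃ e ∈ hd.ESub, k₀ * x * k₀⁻¹ = e * x := by
      intro x hx
      obtain ⟨e₁, he₁, hx₁⟩ := hσ s⁻¹ (S.inv_mem hs) x hx
      have hy : k⁻¹ * (e₁ * x) * k⁻¹⁻¹ ∈ Q :=
        hQst k⁻¹ (H.inv_mem hk) _ (mul_mem he₁.1 hx)
      obtain ⟨e₂, he₂, hy₂⟩ := hσ s hs _ hy
      refine ⟨k * e₂ * k⁻¹ * e₁, mul_mem (hEinv k hk e₂ he₂) he₁, ?_⟩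
      calc k₀ * x * k₀⁻¹ = k * σ s (k⁻¹ * σ s⁻¹ x * k⁻¹⁻¹) * k⁻¹ := Subtype.ext (by
            simp [σ, k₀, mul_assoc])
        _ = _ := by rw [hx₁, hy₂]; group
    have hk₀st : k₀ • a₀ = a₀ := by
      have h1 : k₀ ∈ H' := hk₀H
      rw [← hst] at h1
      exact h1
    obtain ⟨r, hr, d, hd', hrd⟩ := exists_QD hS1 hk₀st
    have hdmod : ∀ x ∈ Q, ∃ f ∈ hd.ESub, d * x * d⁻¹ = f * x := by
      intro x hx
      obtain ⟨e, he, hx'⟩ := hact x hx
      refine ⟨e * (r⁻¹ * x * r⁻¹⁻¹ * x⁻¹), mul_mem he (hrmod r⁻¹ (inv_mem hr) x hx), ?_⟩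
      have hce : e * r⁻¹ = r⁻¹ * e := hd.E_comm he (inv_mem hr)
      calc d * x * d⁻¹ = r⁻¹ * (k₀ * x * k₀⁻¹) * r := by rw [hrd]; group
        _ = r⁻¹ * e * (x * r) := by rw [hx']; group
        _ = e * r⁻¹ * (x * r) := by rw [hce]
        _ = _ := by group
    obtain ⟨q₀, hq₀, hq₀E⟩ := SetLike.exists_of_lt (lt_of_le_of_ne hd.E_le hEQ)
    have hq₀2 : q₀ * q₀ ≠ 1 := fun e => hq₀E ⟨hq₀, e⟩
    have hdE : ∀ e ∈ hd.ESub, d * e = e * d := by
      intro e he
      by_cases he1 : e = 1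
      · rw [he1, one_mul, mul_one]
      obtain ⟨c, hc, hce⟩ := hd.K_trans (hsq q₀ hq₀) hq₀2 he he1
      have hx : c * q₀ * c⁻¹ ∈ Q := hd.conj_Q (hd.K_le hc) hq₀
      obtain ⟨f, hf, hfx⟩ := hdmod _ hx
      have hxx : c * q₀ * c⁻¹ * (c * q₀ * c⁻¹) = e := by rw [← hce]; group
      refine mul_inv_eq_iff_eq_mul.1 ?_
      calc d * e * d⁻¹ = d * (c * q₀ * c⁻¹) * d⁻¹ * (d * (c * q₀ * c⁻¹) * d⁻¹) := by
            rw [← hxx]; group
        _ = f * (c * q₀ * c⁻¹ * f) * (c * q₀ * c⁻¹) := by rw [hfx]; group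
        _ = f * f * (c * q₀ * c⁻¹ * (c * q₀ * c⁻¹)) := by rw [← hd.E_comm hf hx]; group
        _ = e := by rw [hf.2, one_mul, hxx]
    have hd1 : d = 1 := hd.eq_one_of_centralizes hd' fun x hx => by
      obtain ⟨f, hf, hfx⟩ := hdmod x hx
      have hf1 := hd.eq_one_of_coset hd' hf.1 (hdE f hf) (hfx.trans (hd.E_comm hf hx))
      rw [hf1, one_mul] at hfx
      exact mul_inv_eq_iff_eq_mul.1 hfx
    have hk₀Q : k₀ ∈ Q := by rw [hrd, hd1, mul_one]; exact hr
    refine hmem _ hmemK ?_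
    have hT : (k : G) * s * (k : G)⁻¹ ∈ (T : Subgroup G) := by
      have := (T : Subgroup G).mul_mem ((hQmem k₀).1 hk₀Q) (h.closed.1 hs)
      rwa [hk₀, inv_mul_cancel_right] at this
    exact S.mul_mem (h.closed.2 s hs (k : G) hT) (S.inv_mem hs)
  -- `S ⊆ K`
  have hSK : S ≤ K := by
    intro s hs
    obtain ⟨c, hc, hc1⟩ : ∃ c ∈ hd.KSub, c ≠ 1 := by
      refine hd.KSub.bot_or_exists_ne_one.resolve_left fun e => ?_
      have h1 := hd.card_K
      rw [e, Subgroup.card_bot] at h1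
      have := hd.four_le_q
      omega
    have hcH : (c : G) ∈ H := hDH c (hd.K_le hc)
    have hcinv : ∀ e ∈ hd.ESub, c * e * c⁻¹ ∈ hd.ESub := hEinv c hcH
    have hk₀K : (c : G) * s * (c : G)⁻¹ * s⁻¹ ∈ K := by
      rw [show (c : G) * s * (c : G)⁻¹ * s⁻¹ = c * (s * (c : G)⁻¹ * s⁻¹) by group]
      exact K.mul_mem c.2 (hKn.conj_mem _ (K.inv_mem c.2) s)
    have hk₀E := hcommE c hcH s hs hk₀K
    let φ : hd.ESub → hd.ESub := fun e =>
      ⟨(e : K) * (c * (e : K) * c⁻¹)⁻¹, mul_mem e.2 (inv_mem (hcinv _ e.2))⟩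
    have hφ : Function.Injective φ := by
      intro e e' he
      have he' : (e : K) * (c * (e : K) * c⁻¹)⁻¹ = (e' : K) * (c * (e' : K) * c⁻¹)⁻¹ :=
        congrArg Subtype.val he
      have h1 : ((e' : K))⁻¹ * e = c * ((e' : K)⁻¹ * e) * c⁻¹ := by
        calc ((e' : K))⁻¹ * e = (e' : K)⁻¹ * ((e : K) * (c * (e : K) * c⁻¹)⁻¹) *
              (c * (e : K) * c⁻¹) := by group
          _ = c * ((e' : K)⁻¹ * e) * c⁻¹ := by rw [he']; group
      have h2 : ((e' : K))⁻¹ * e = 1 := hd.fpf hc hc1 (mul_mem (inv_mem e'.2.1) e.2.1)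
        (mul_inv_eq_iff_eq_mul.1 h1.symm).symm
      exact Subtype.ext (inv_mul_eq_one.1 h2).symm
    obtain ⟨e, he⟩ := Finite.injective_iff_surjective.1 hφ ⟨_, hk₀E⟩
    have heK : (e : K) * (c * (e : K) * c⁻¹)⁻¹ =
        (⟨(c : G) * s * (c : G)⁻¹ * s⁻¹, hk₀K⟩ : K) := congrArg Subtype.val he
    set a : G := ((e : K) : G) * s with ha
    have haS : a ∈ S := S.mul_mem (hEM e.2) hs
    have hac : (c : G) * a * (c : G)⁻¹ = a := by
      have h1 : c * (e : K) * c⁻¹ * (⟨(c : G) * s * (c : G)⁻¹ * s⁻¹, hk₀K⟩ : K) = (e : K) := by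
        rw [← heK, hd.E_comm (hcinv _ e.2) (mul_mem e.2.1 (inv_mem (hcinv _ e.2).1)),
          inv_mul_cancel_right]
      have h2 : (c : G) * (e : K) * (c : G)⁻¹ * ((c : G) * s * (c : G)⁻¹ * s⁻¹) = (e : K) :=
        congrArg Subtype.val h1
      calc (c : G) * a * (c : G)⁻¹
          = (c : G) * (e : K) * (c : G)⁻¹ * ((c : G) * s * (c : G)⁻¹ * s⁻¹) * s := by
            rw [ha]; group
        _ = a := by rw [h2]
    have ha1 : a = 1 := by
      by_contra ha1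
      have haH : a ∈ H := h.le_H (h.closed.1 haS)
      let u : K := ⟨a * t * a⁻¹, hKn.conj_mem _ t.2 a⟩
      have hct : c • t • a₀ = t • a₀ := (hd.K_le hc).2
      have hcu : c • (u • a₀) = u • a₀ := by
        have h1 : t⁻¹ * c * t ∈ H' := by
          rw [← hst, mem_stabilizer_iff, mul_smul, mul_smul, hct, inv_smul_smul]
        have h2 : u⁻¹ * c * u ∈ H' := by
          show ((u⁻¹ * c * u : K) : G) ∈ H
          have h3 : ((u⁻¹ * c * u : K) : G) = a * ((t : G)⁻¹ * c * t) * a⁻¹ := by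
            have h4 : (c : G) = a⁻¹ * c * a := by
              calc (c : G) = a⁻¹ * a * c := by group
                _ = a⁻¹ * ((c : G) * a * (c : G)⁻¹) * c := by rw [hac]
                _ = _ := by group
            show (a * (t : G) * a⁻¹)⁻¹ * c * (a * (t : G) * a⁻¹) = _
            conv_rhs => rw [h4]
            group
          rw [h3]
          exact H.mul_mem (H.mul_mem haH h1) (H.inv_mem haH)
        rw [← hst, mem_stabilizer_iff, mul_smul, mul_smul, inv_smul_eq_iff] at h2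
        exact h2
      have hfix : u • a₀ = a₀ ∨ u • a₀ = t • a₀ := by
        by_contra hcon
        push Not at hcon
        obtain ⟨x, ⟨hx, hxe⟩, huniq⟩ := existsUnique_from_b hS1 hcon.1
        have hxc : c * x * c⁻¹ = x := by
          refine huniq _ ⟨hd.conj_Q (hd.K_le hc) hx, ?_⟩
          rw [mul_smul, mul_smul, show c⁻¹ • t • a₀ = t • a₀ by rw [inv_smul_eq_iff, hct], hxe, hcu]
        have hx1 := hd.fpf hc hc1 hx (mul_inv_eq_iff_eq_mul.1 hxc).symm
        rw [hx1, one_smul] at hxe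
        exact hcon.2 hxe.symm
      rcases hfix with e1 | e1
      · have h1 : u ∈ H' := by rw [← hst]; exact e1
        refine htH ?_
        have h2 := H.mul_mem (H.mul_mem (H.inv_mem haH) (show (u : G) ∈ H from h1)) haH
        show (t : G) ∈ H
        rwa [show a⁻¹ * (u : G) * a = (t : G) by simp [u, mul_assoc]] at h2
      · have h1 : t⁻¹ * u ∈ H' := by
          rw [← hst, mem_stabilizer_iff, mul_smul, e1, inv_smul_smul]
        have h2 : (t : G)⁻¹ * a * (t : G)⁻¹⁻¹ ∈ H := by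
          have := H.mul_mem (show ((t⁻¹ * u : K) : G) ∈ H from h1) haH
          simpa [u, mul_assoc] using this
        exact htH (by
          have := H.inv_mem (h.control a haS ha1 (t : G)⁻¹ h2)
          rwa [inv_inv] at this)
    have : s = ((e : K) : G)⁻¹ := eq_inv_of_mul_eq_one_right ha1
    rw [this]
    exact K.inv_mem (e : K).2
  refine Or.inr ⟨fun s hs => ?_, fun x hx hx2 =>
    hfinish x ⟨hx.1, Subgroup.normalClosure_le_normal hSK hx.2⟩ hx2⟩
  exact congrArg Subtype.val (hmem s (hSK hs) hs).2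

/-- The theorem in 2-rank at least two. -/
theorem conc_of_rankTwo (h : Hyp T S H) (h2 : RankTwoIn S) : Conc T S := by
  haveI : Fact (Nat.Prime 2) := ⟨Nat.prime_two⟩
  set O := pPrimeCore 2 G with hO
  haveI : O.Normal := CfsgLib.Balance.oddCore_normal_inst (G := G) 2
  have hnd : ¬ 2 ∣ Nat.card O := Constrained.pPrimeCore_not_dvd
  have hodd : Odd (Nat.card O) := Nat.odd_iff.2 (Nat.two_dvd_ne_zero.1 hnd)
  have hbot := Constrained.disjoint_of_isPGroup_of_not_dvd T.2 hnd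
  set π := QuotientGroup.mk' O with hπ
  have hinj : ∀ x ∈ (T : Subgroup G), ∀ y ∈ (T : Subgroup G), π x = π y → x = y := by
    intro x hx y hy e
    have h1 : x⁻¹ * y ∈ (T : Subgroup G) ⊓ O :=
      ⟨(T : Subgroup G).mul_mem ((T : Subgroup G).inv_mem hx) hy, QuotientGroup.eq.1 e⟩
    rw [hbot, Subgroup.mem_bot, inv_mul_eq_one] at h1
    exact h1
  have hq := h.quotient (h.oddCore_le h2) hodd
  have h2' : RankTwoIn (S.map π) := by
    obtain ⟨a, ha, b, hb, hao, hbo, hab, hc⟩ := h2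
    have hord : ∀ x ∈ S, orderOf x = 2 → orderOf (π x) = 2 := fun x hx hxo => by
      rw [orderOf_two_iff, ← map_mul, mul_self_eq_one hxo, map_one]
      exact ⟨rfl, fun e => ne_one_of_orderOf_two hxo
        (hinj x (h.closed.1 hx) 1 (one_mem _) (by rw [e, map_one]))⟩
    exact ⟨π a, ⟨a, ha, rfl⟩, π b, ⟨b, hb, rfl⟩, hord a ha hao, hord b hb hbo,
      fun e => hab (hinj a (h.closed.1 ha) b (h.closed.1 hb) e), hc.map π⟩
  have hX : Subgroup.normalClosure (((S.map π : Subgroup (G ⧸ O))) : Set (G ⧸ O)) =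
      (Subgroup.normalClosure (S : Set G)).map π := by
    rw [Subgroup.coe_map, Subgroup.map_normalClosure _ π (QuotientGroup.mk'_surjective O)]
  have hmapX : ∀ x ∈ (T : Subgroup G) ⊓ Subgroup.normalClosure (S : Set G),
      π x ∈ (T.mapSurjective (QuotientGroup.mk'_surjective O) : Subgroup (G ⧸ O)) ⊓
        Subgroup.normalClosure (((S.map π : Subgroup (G ⧸ O))) : Set (G ⧸ O)) := fun x hx => by
    refine ⟨?_, ?_⟩
    · rw [Sylow.coe_mapSurjective]; exact ⟨x, hx.1, rfl⟩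
    · rw [hX]; exact ⟨x, hx.2, rfl⟩
  have hback : ∀ x ∈ (T : Subgroup G), π x ∈ S.map π → x ∈ S := by
    rintro x hx ⟨s, hs, e⟩
    exact hinj s (h.closed.1 hs) x hx e ▸ hs
  rcases conc_of_core hq h2' Constrained.pPrimeCore_quotient_pPrimeCore with e | ⟨e1, e2⟩
  · refine Or.inl (le_antisymm (le_inf h.closed.1 Subgroup.le_normalClosure) fun x hx => ?_)
    refine hback x hx.1 ?_
    rw [e]
    exact hmapX x hx
  · refine Or.inr ⟨fun s hs => ?_, fun x hx hx2 => hback x hx.1 (e2 _ (hmapX x hx) ?_)⟩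
    · refine hinj _ (mul_mem (h.closed.1 hs) (h.closed.1 hs)) 1 (one_mem _) ?_
      rw [map_mul, map_one]
      exact e1 _ ⟨s, hs, rfl⟩
    · rw [← map_mul, hx2, map_one]

end CfsgLib.StrongClosure34
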