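import Cfsg.Agent.StrongClosure34.Auto
import Cfsg.Agent.ZStar.Theorem
import Cfsg.Agent.GoldProduct.Main
import Cfsg.Agent.S1250
import Mathlib.GroupTheory.Focal

/-!
A strongly closed 2-subgroup with a unique involution is the trace of the Sylow 2-subgroup on its
normal closure.
-/

set_option autoImplicit false

universe u

namespace CfsgLib.StrongClosure34

open Cfsg
open scoped commutatorElement

/-- All involutions of `S` are equal. -/
def OneInv {G : Type*} [Group G] (S : Subgroup G) : Prop :=
  ∀ x ∈ S, ∀ y ∈ S, orderOf x = 2 → orderOf y = 2 → x = y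

variable {G : Type u} [Group G] [Finite G] {T : Sylow 2 G} {S : Subgroup G}

/-- The focal subgroup argument in a group generated by the conjugates of `S`. -/
theorem sylow_le_of_focal (htop : Subgroup.normalClosure (S : Set G) = ⊤)
    (hcl : IsStronglyClosed S (T : Subgroup G)) (F : Subgroup G) (hS : S ≤ F)
    (h : ∀ x g : G, x ∈ (T : Subgroup G) → g * x * g⁻¹ ∈ (T : Subgroup G) →
      x⁻¹ * (g * x * g⁻¹) ∈ F) :
    (T : Subgroup G) ≤ F := by
  haveI : Fact (Nat.Prime 2) := ⟨Nat.prime_two⟩
  have hfoc : (T : Subgroup G) ⊓ commutator G ≤ F := by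
    rw [inf_comm, Subgroup.commutator_inf_eq_focalSubgroup T, Subgroup.focalSubgroup_def,
      Subgroup.closure_le]
    rintro _ ⟨hxu, x, hx, u, rfl⟩
    have h1 := h x⁻¹ u (inv_mem hx) (by
      have h2 := mul_mem (inv_mem hx) hxu
      rw [commutatorElement_def] at h2
      convert h2 using 1
      group)
    show x * u * x⁻¹ * u⁻¹ ∈ F
    rw [show x * u * x⁻¹ * u⁻¹ = x⁻¹⁻¹ * (u * x⁻¹ * u⁻¹) by group]
    exact h1
  haveI : (S ⊔ commutator G).Normal := by
    refine ⟨fun x hx g => ?_⟩
    have h1 : g * x * g⁻¹ * x⁻¹ ∈ commutator G :=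
      Subgroup.commutator_mem_commutator (Subgroup.mem_top g) (Subgroup.mem_top x)
    have := (S ⊔ commutator G).mul_mem (Subgroup.mem_sup_right h1) hx
    rwa [inv_mul_cancel_right] at this
  intro x hx
  have hx' : x ∈ S ⊔ commutator G := by
    have hle : Subgroup.normalClosure (S : Set G) ≤ S ⊔ commutator G :=
      Subgroup.normalClosure_le_normal fun s hs => Subgroup.mem_sup_left hs
    exact hle (htop ▸ Subgroup.mem_top x)
  obtain ⟨s, hs, c, hc, rfl⟩ := Subgroup.mem_sup_of_normal_right.1 hx'
  refine F.mul_mem (hS hs) (hfoc ⟨?_, hc⟩)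
  have h1 := (T : Subgroup G).mul_mem ((T : Subgroup G).inv_mem (hcl.1 hs)) hx
  rwa [inv_mul_cancel_left] at h1

theorem OneInv.exists_involution (h : OneInv S) (hS2 : IsPGroup 2 S) (hS : S ≠ ⊥) :
    ∃ z ∈ S, orderOf z = 2 ∧ ∀ s ∈ S, s * s = 1 → s = 1 ∨ s = z := by
  obtain ⟨s, hs, hs1⟩ := S.bot_or_exists_ne_one.resolve_left hS
  obtain ⟨m, hm⟩ := exists_orderOf_two_pow hS2 hs hs1
  refine ⟨_, pow_mem hs m, hm, fun x hx hx2 => ?_⟩
  by_cases hx1 : x = 1
  · exact Or.inl hx1
  · exact Or.inr (h x hx _ (pow_mem hs m) (CfsgLib.StronglyEmbedded.orderOf_two_iff.2 ⟨hx2, hx1⟩) hm)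

/-- The group case of the rank-one theorem: a central involution, and `S` generating. -/
theorem sylow_le_of_central (hcl : IsStronglyClosed S (T : Subgroup G))
    (htop : Subgroup.normalClosure (S : Set G) = ⊤) {z : G} (hzo : orderOf z = 2) (hzS : z ∈ S)
    (hz : ∀ s ∈ S, s * s = 1 → s = 1 ∨ s = z) (hzc : ∀ x : G, Commute x z)
    (hna : ¬ ∀ x ∈ S, ∀ y ∈ S, x * y = y * x) : (T : Subgroup G) ≤ S := by
  haveI : Fact (Nat.Prime 2) := ⟨Nat.prime_two⟩
  set N := Subgroup.normalizer (S : Set G) with hN
  -- first stage: `T = S C`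
  have h1 : (T : Subgroup G) ≤ S ⊔ Subgroup.centralizer (S : Set G) := by
    refine le_sup_centralizer hcl hzo hzS hz hzc hna ?_
    refine sylow_le_of_focal htop hcl _ le_sup_right fun x g hx hg => ?_
    obtain ⟨n, hn, hs⟩ := exists_normalizer_congr hcl hz hzc hx hg
    have hmem : x⁻¹ * n * x⁻¹⁻¹ * n⁻¹ ∈ ⁅N, N⁆ :=
      Subgroup.commutator_mem_commutator (N.inv_mem (sylow_le_normalizer hcl hx)) hn
    have := Subgroup.mul_mem_sup hmem hs
    convert this using 1
    group
  -- the centralizer meets `S` in the centre, which has order two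
  have hcs : ∀ x ∈ cen T S, x ∈ S → x = 1 ∨ x = z := by
    intro x hx hxS
    refine hz x hxS ?_
    have hat : CfsgLib.TwoGroup.AtMostOneInvolution S := by
      intro p q hp hq
      have hv : ∀ w : S, orderOf w = 2 → (w : G) = z := fun w hw => by
        rw [← Subgroup.orderOf_coe, CfsgLib.StronglyEmbedded.orderOf_two_iff] at hw
        exact (hz _ w.2 hw.1).resolve_left hw.2
      exact Subtype.ext ((hv p hp).trans (hv q hq).symm)
    rcases CfsgLib.TwoGroup.cyclic_or_quaternion_frame (T.2.to_le hcl.1) hat with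
      hc | ⟨n, hn, -, ⟨F⟩⟩
    · refine absurd (fun p hp q hq => ?_) hna
      letI := IsCyclic.commGroup (α := S)
      exact congrArg Subtype.val (mul_comm (⟨p, hp⟩ : S) ⟨q, hq⟩)
    · have hcen : (⟨x, hxS⟩ : S) ∈ Subgroup.center S := Subgroup.mem_center_iff.2 fun s =>
        Subtype.ext ((mem_cen_iff.1 hx).2 s s.2)
      rcases (F.mem_center_of_maxType hn (CfsgLib.TwoGroup.maxType_neg_one n)).1 hcen with e | e
      · rw [show x = 1 from congrArg Subtype.val e, one_mul]
      · rw [show x = _ from congrArg Subtype.val e, ← Subgroup.coe_mul, F.e_mul_e, ← two_mul,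
          CfsgLib.TwoGroup.two_mul_half (by omega), F.map_zero]
        rfl
  -- Goldschmidt's product theorem in the quotient by the centre
  set Z := Subgroup.zpowers z with hZ
  haveI : Z.Normal := ⟨fun y hy g => by
    obtain ⟨k, rfl⟩ := Subgroup.mem_zpowers_iff.1 hy
    rw [((hzc g).zpow_right k).eq, mul_inv_cancel_right]
    exact hy⟩
  have hZS : Z ≤ S := Subgroup.zpowers_le.2 hzS
  set π := QuotientGroup.mk' Z with hπ
  have hsurj : Function.Surjective π := QuotientGroup.mk'_surjective Z
  have hpair : CfsgLib.GoldProduct.Pair (T.mapSurjective hsurj) (S.map π) ((cen T S).map π) := by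
    refine ⟨?_, ?_, ?_, ?_⟩
    · rintro _ ⟨a, ha, rfl⟩ _ ⟨b, hb, rfl⟩
      rw [← map_mul, ← map_mul, (mem_cen_iff.1 hb).2 a ha]
    · rw [eq_bot_iff]
      rintro _ ⟨⟨a, ha, rfl⟩, b, hb, hab⟩
      have hbS : b ∈ S := by
        have h2 := S.mul_mem ha (hZS (QuotientGroup.eq.1 hab.symm))
        rwa [mul_inv_cancel_left] at h2
      rw [Subgroup.mem_bot, ← hab]
      refine (QuotientGroup.eq_one_iff b).2 ?_
      rcases hcs b hb hbS with rfl | rfl
      · exact one_mem _
      · exact Subgroup.mem_zpowers _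
    · exact Cfsg.Agent.S1250.result T S hcl Z
    · exact Cfsg.Agent.S1250.result T _ (cen_closed hcl hz hzc) Z
  have hgoal := CfsgLib.GoldProduct.goal (G ⧸ Z) _ _ _ hpair
  have hcomm : ∀ (n c : G), c ∈ cen T S → n * c * n⁻¹ ∈ (T : Subgroup G) →
      n * c * n⁻¹ * c⁻¹ ∈ Z := by
    intro n c hc hnc
    have h2 : π (n * c * n⁻¹ * c⁻¹) ∈ oddCore (G ⧸ Z) := by
      refine hgoal ?_
      rw [show π (n * c * n⁻¹ * c⁻¹) = ⁅π n, π c⁆ by
        rw [← map_commutatorElement, commutatorElement_def]]
      refine Subgroup.commutator_mem_commutator ?_ (Subgroup.subset_normalClosure ⟨c, hc, rfl⟩)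
      rw [Subgroup.coe_map, ← Subgroup.map_normalClosure _ π hsurj, htop]
      exact ⟨n, trivial, rfl⟩
    have h3 : π (n * c * n⁻¹ * c⁻¹) ∈ ((T.mapSurjective hsurj : Sylow 2 _) : Subgroup (G ⧸ Z)) := by
      rw [Sylow.coe_mapSurjective]
      exact ⟨_, mul_mem hnc (inv_mem (mem_cen_iff.1 hc).1), rfl⟩
    have hbot := Constrained.disjoint_of_isPGroup_of_not_dvd (T.mapSurjective hsurj).2
      (Constrained.pPrimeCore_not_dvd (p := 2) (G := G ⧸ Z))
    have h4 : π (n * c * n⁻¹ * c⁻¹) ∈
        ((T.mapSurjective hsurj : Sylow 2 _) : Subgroup (G ⧸ Z)) ⊓ pPrimeCore 2 (G ⧸ Z) := ⟨h3, h2⟩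
    rw [hbot, Subgroup.mem_bot] at h4
    exact (QuotientGroup.eq_one_iff _).1 h4
  -- second stage: the focal elements lie in `S`
  refine sylow_le_of_focal htop hcl S le_rfl fun x g hx hg => ?_
  obtain ⟨n, hn, hs⟩ := exists_normalizer_congr hcl hz hzc hx hg
  have hS_le : S ≤ Subgroup.normalizer (S : Set G) := Subgroup.le_normalizer
  have hsc : ∀ s ∈ S, ∀ c ∈ Subgroup.centralizer (S : Set G), s * c = c * s :=
    fun s hs c hc => Subgroup.mem_centralizer_iff.1 hc s hs
  have hx' : x ∈ ((S ⊔ Subgroup.centralizer (S : Set G) : Subgroup G) : Set G) := h1 hx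
  rw [Subgroup.coe_mul_of_left_le_normalizer_right S (Subgroup.centralizer (S : Set G))
    (fun s hs => mem_normalizer_of_conj_mem fun c hc => by
      rw [hsc s hs c hc, mul_inv_cancel_right]; exact hc)] at hx'
  obtain ⟨s, hsS, c, hc, rfl⟩ := Set.mem_mul.1 hx'
  have hcT : c ∈ (T : Subgroup G) := by
    have := (T : Subgroup G).mul_mem ((T : Subgroup G).inv_mem (hcl.1 hsS)) hx
    rwa [inv_mul_cancel_left] at this
  have hncT : n * c * n⁻¹ ∈ (T : Subgroup G) := by
    have h2 : n * (s * c) * n⁻¹ ∈ (T : Subgroup G) := by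
      have := (T : Subgroup G).mul_mem hg ((T : Subgroup G).inv_mem (hcl.1 hs))
      convert this using 1
      group
    have := (T : Subgroup G).mul_mem
      ((T : Subgroup G).inv_mem (hcl.1 (normalizer_conj hn hsS))) h2
    convert this using 1
    group
  have hw := hcomm n c ⟨hcT, hc⟩ hncT
  -- `y = (n s n⁻¹)(n c n⁻¹) s'`
  set w := n * c * n⁻¹ * c⁻¹ with hw'
  set s' := (n * (s * c) * n⁻¹)⁻¹ * (g * (s * c) * g⁻¹) with hs'
  have hy : g * (s * c) * g⁻¹ = (n * s * n⁻¹) * (w * c) * s' := by rw [hw', hs']; group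
  have hfin : (s * c)⁻¹ * (g * (s * c) * g⁻¹) = (s⁻¹ * (n * s * n⁻¹)) * w * s' := by
    have hcw : Commute c⁻¹ (s⁻¹ * (n * s * n⁻¹) * w) := by
      have hS' : s⁻¹ * (n * s * n⁻¹) * w ∈ S :=
        S.mul_mem (S.mul_mem (S.inv_mem hsS) (normalizer_conj hn hsS)) (hZS hw)
      exact (show Commute (s⁻¹ * (n * s * n⁻¹) * w) c from hsc _ hS' c hc).symm.inv_left
    rw [hy]
    calc (s * c)⁻¹ * (n * s * n⁻¹ * (w * c) * s')
        = c⁻¹ * (s⁻¹ * (n * s * n⁻¹) * w) * c * s' := by group
      _ = s⁻¹ * (n * s * n⁻¹) * w * s' := by rw [hcw.eq, inv_mul_cancel_right]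
  rw [hfin]
  exact S.mul_mem (S.mul_mem (S.mul_mem (S.inv_mem hsS) (normalizer_conj hn hsS)) (hZS hw)) hs

/-- The statement for one group. -/
def RankOneGoal (G : Type u) [Group G] : Prop :=
  ∀ (T : Sylow 2 G) (S : Subgroup G), IsStronglyClosed S (T : Subgroup G) → OneInv S →
    S = (T : Subgroup G) ⊓ Subgroup.normalClosure (S : Set G)

theorem rankOne_aux : ∀ (n : ℕ) (G : Type u) [Group G] [Finite G],
    Nat.card G < n → RankOneGoal G := by
  intro n
  induction n with
  | zero => exact fun _ _ _ h => absurd h (Nat.not_lt_zero _)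
  | succ n ih =>
    intro G _ _ hlt T S hcl h1
    haveI : Fact (Nat.Prime 2) := ⟨Nat.prime_two⟩
    refine le_antisymm (le_inf hcl.1 Subgroup.le_normalClosure) ?_
    by_cases hS : S = ⊥
    · subst hS
      exact le_trans inf_le_right (Subgroup.normalClosure_le_normal (by simp))
    set X := Subgroup.normalClosure (S : Set G) with hX
    have hSX : S ≤ X := Subgroup.le_normalClosure
    by_cases htop : X = ⊤
    swap
    · -- pass to the normal closure
      have hXlt : Nat.card X < n := by
        refine lt_of_lt_of_le ?_ (Nat.lt_succ_iff.mp hlt)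
        exact lt_of_le_of_ne (Subgroup.card_le_card_group X)
          fun he => htop (Subgroup.eq_top_of_card_eq X he)
      obtain ⟨T', hT'⟩ := exists_sylow_normal T X
      have hT'mem : ∀ y : X, y ∈ (T' : Subgroup X) ↔ (y : G) ∈ (T : Subgroup G) := by
        intro y
        constructor
        · intro hy
          have : (y : G) ∈ (T : Subgroup G) ⊓ X := hT' ▸ ⟨y, hy, rfl⟩
          exact this.1
        · intro hy
          have : (y : G) ∈ (T' : Subgroup X).map X.subtype := hT'.symm ▸ ⟨hy, y.2⟩
          obtain ⟨y', hy', he⟩ := this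
          rwa [← show y' = y from Subtype.ext he]
      have hcl' : IsStronglyClosed (S.subgroupOf X) (T' : Subgroup X) := by
        refine ⟨fun y hy => (hT'mem y).2 (hcl.1 hy), fun y hy g hg => ?_⟩
        exact hcl.2 _ hy (g : G) ((hT'mem _).1 hg)
      have h := ih X hXlt T' (S.subgroupOf X) hcl'
        fun p hp q hq ho ho' => Subtype.ext (h1 _ hp _ hq
          ((orderOf_injective X.subtype X.subtype_injective p).trans ho)
          ((orderOf_injective X.subtype X.subtype_injective q).trans ho'))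
      intro x hx
      have hmem : (⟨x, hx.2⟩ : X) ∈ (T' : Subgroup X) ⊓
          Subgroup.normalClosure ((S.subgroupOf X : Subgroup X) : Set X) := by
        refine ⟨(hT'mem _).2 hx.1, ?_⟩
        let K₁ : Subgroup G := Subgroup.closure {y | ∃ a ∈ X, ∃ s ∈ S, a * s * a⁻¹ = y}
        have hle : K₁ ≤ (Subgroup.normalClosure ((S.subgroupOf X : Subgroup X) : Set X)).map
            X.subtype := by
          refine (Subgroup.closure_le _).2 ?_
          rintro _ ⟨a, ha, s, hs, rfl⟩
          exact ⟨⟨a, ha⟩ * ⟨s, hSX hs⟩ * ⟨a, ha⟩⁻¹,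
            Subgroup.normalClosure_normal.conj_mem _ (Subgroup.subset_normalClosure
              (show (⟨s, hSX hs⟩ : X) ∈ S.subgroupOf X from hs)) _, rfl⟩
        haveI : K₁.Normal := CfsgLib.GoldProduct.closure_normal_of_invariant (by
          rintro _ ⟨a, ha, s, hs, rfl⟩ g
          obtain ⟨a', ha', m, rfl, hm⟩ := exists_frattini T X g
          have hms : m * s * m⁻¹ ∈ S := hcl.2 s hs m (hm s ⟨hcl.1 hs, hSX hs⟩).1
          refine ⟨a' * (m * a * m⁻¹), X.mul_mem ha' (Subgroup.normalClosure_normal.conj_mem a ha m),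
            _, hms, ?_⟩
          group)
        have hXK : X ≤ K₁ := Subgroup.normalClosure_le_normal fun s hs =>
          Subgroup.subset_closure ⟨1, X.one_mem, s, hs, by simp⟩
        obtain ⟨y, hy, he⟩ := hle (hXK hx.2)
        rwa [← show y = ⟨x, hx.2⟩ from Subtype.ext he]
      rw [← h] at hmem
      exact hmem
    rw [htop, inf_top_eq]
    obtain ⟨z, hzS, hzo, hz⟩ := h1.exists_involution (T.2.to_le hcl.1) hS
    -- passing to quotients
    have hquot : ∀ (M : Subgroup G) [M.Normal], M ≠ ⊥ → OneInv (S.map (QuotientGroup.mk' M)) →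
        (T : Subgroup G).map (QuotientGroup.mk' M) ≤ S.map (QuotientGroup.mk' M) := by
      intro M _ hM hone
      set π := QuotientGroup.mk' M
      have hsurj : Function.Surjective π := QuotientGroup.mk'_surjective M
      have h := ih (G ⧸ M) (lt_of_lt_of_le (CfsgLib.ZStar.card_quotient_lt hM)
        (Nat.lt_succ_iff.mp hlt)) (T.mapSurjective hsurj) (S.map π)
        (Cfsg.Agent.S1250.result T S hcl M) hone
      rw [Sylow.coe_mapSurjective, Subgroup.coe_map, ← Subgroup.map_normalClosure _ π hsurj, ← hX,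
        htop, Subgroup.map_top_of_surjective π hsurj, inf_top_eq] at h
      exact h.ge
    by_cases hO : pPrimeCore 2 G = ⊥
    swap
    · -- the odd core
      set O := pPrimeCore 2 G with hO'
      haveI : O.Normal := CfsgLib.Balance.oddCore_normal_inst (G := G) 2
      set π := QuotientGroup.mk' O with hπ
      have hinj : ∀ a ∈ (T : Subgroup G), π a = 1 → a = 1 := by
        intro a ha h0
        have hbot := Constrained.disjoint_of_isPGroup_of_not_dvd T.2
          (Constrained.pPrimeCore_not_dvd (p := 2) (G := G))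
        exact Subgroup.mem_bot.1 (hbot ▸ (⟨ha, (QuotientGroup.eq_one_iff a).1 h0⟩ :
          a ∈ (T : Subgroup G) ⊓ pPrimeCore 2 G))
      have hone : OneInv (S.map π) := by
        rintro _ ⟨a, ha, rfl⟩ _ ⟨b, hb, rfl⟩ hoa hob
        have hv : ∀ c ∈ S, orderOf (π c) = 2 → c = z := by
          intro c hc hoc
          have hc2 := CfsgLib.StronglyEmbedded.orderOf_two_iff.1 hoc
          have h2 : c * c = 1 := hinj _ (mul_mem (hcl.1 hc) (hcl.1 hc)) (by rw [map_mul, hc2.1])
          exact (hz c hc h2).resolve_left fun e => hc2.2 (by rw [e, map_one])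
        rw [hv a ha hoa, hv b hb hob]
      intro x hx
      obtain ⟨s, hs, he⟩ := hquot O hO hone ⟨x, hx, rfl⟩
      have := hinj (s⁻¹ * x) (mul_mem (inv_mem (hcl.1 hs)) hx)
        (by rw [map_mul, map_inv, he, inv_mul_cancel])
      rw [inv_mul_eq_one] at this
      exact this ▸ hs
    · -- the involution is central
      have hzc : ∀ x : G, Commute x z := by
        intro x
        have hzs := CfsgLib.ZStar.inZStar_of_no_fusion hzo T fun g hg => by
          refine (hz _ (hcl.2 z hzS g hg) ?_).resolve_left fun e => ?_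
          · rw [show g * z * g⁻¹ * (g * z * g⁻¹) = g * (z * z) * g⁻¹ by group,
              CfsgLib.StronglyEmbedded.mul_self_eq_one hzo]
            group
          · exact CfsgLib.StronglyEmbedded.ne_one_of_orderOf_two hzo (conj_eq_one_iff.1 e)
        have h2 := hzs x
        rw [hO, Subgroup.mem_bot] at h2
        exact mul_inv_eq_iff_eq_mul.1 (mul_inv_eq_one.1 h2)
      by_cases hab : ∀ x ∈ S, ∀ y ∈ S, x * y = y * x
      · -- `S` cyclic
        set Z := Subgroup.zpowers z with hZ
        haveI : Z.Normal := ⟨fun y hy g => by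
          obtain ⟨k, rfl⟩ := Subgroup.mem_zpowers_iff.1 hy
          rw [((hzc g).zpow_right k).eq, mul_inv_cancel_right]
          exact hy⟩
        have hone : OneInv (S.map (QuotientGroup.mk' Z)) := by
          haveI : IsCyclic S := CfsgLib.TwoGroup.isCyclic_of_comm_atMostOneInvolution
            (T.2.to_le hcl.1) (fun a b => Subtype.ext (hab _ a.2 _ b.2))
            (fun a b ha hb => Subtype.ext (h1 _ a.2 _ b.2 (by rwa [Subgroup.orderOf_coe])
              (by rwa [Subgroup.orderOf_coe])))
          haveI : IsCyclic (S.map (QuotientGroup.mk' Z)) :=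
            isCyclic_of_surjective _ (MonoidHom.subgroupMap_surjective (QuotientGroup.mk' Z) S)
          intro p hp q hq hop hoq
          classical
          haveI := Fintype.ofFinite (S.map (QuotientGroup.mk' Z))
          by_contra hne
          set p' : S.map (QuotientGroup.mk' Z) := ⟨p, hp⟩ with hp'
          set q' : S.map (QuotientGroup.mk' Z) := ⟨q, hq⟩ with hq'
          have hsub : ({1, p', q'} : Finset (S.map (QuotientGroup.mk' Z))) ⊆
              Finset.univ.filter (fun x => x ^ 2 = 1) := by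
            intro x hx
            simp only [Finset.mem_insert, Finset.mem_singleton] at hx
            refine Finset.mem_filter.2 ⟨Finset.mem_univ _, ?_⟩
            rcases hx with rfl | rfl | rfl
            · exact one_pow 2
            · exact Subtype.ext ((pow_two p).trans (CfsgLib.StronglyEmbedded.mul_self_eq_one hop))
            · exact Subtype.ext ((pow_two q).trans (CfsgLib.StronglyEmbedded.mul_self_eq_one hoq))
          have h3 : ({1, p', q'} : Finset (S.map (QuotientGroup.mk' Z))).card = 3 := by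
            refine Finset.card_eq_three.2 ⟨1, p', q', fun e => ?_, fun e => ?_,
              fun e => hne (congrArg Subtype.val e), rfl⟩
            · exact CfsgLib.StronglyEmbedded.ne_one_of_orderOf_two hop (congrArg Subtype.val e.symm)
            · exact CfsgLib.StronglyEmbedded.ne_one_of_orderOf_two hoq (congrArg Subtype.val e.symm)
          have := (Finset.card_le_card hsub).trans (IsCyclic.card_pow_eq_one_le two_pos)
          omega
        intro x hx
        have hZne : Z ≠ ⊥ := by
          rw [hZ, Ne, Subgroup.zpowers_eq_bot]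
          exact CfsgLib.StronglyEmbedded.ne_one_of_orderOf_two hzo
        obtain ⟨s, hs, he⟩ := hquot Z hZne hone ⟨x, hx, rfl⟩
        have := S.mul_mem hs ((Subgroup.zpowers_le.2 hzS : Z ≤ S) (QuotientGroup.eq.1 he))
        rwa [mul_inv_cancel_left] at this
      · exact sylow_le_of_central hcl htop hzo hzS hz hzc hab

/-- **A strongly closed subgroup with one involution is the trace on its normal closure.** -/
theorem eq_inf_of_oneInv {G : Type u} [Group G] [Finite G] {T : Sylow 2 G} {S : Subgroup G}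
    (hcl : IsStronglyClosed S (T : Subgroup G)) (h1 : OneInv S) :
    S = (T : Subgroup G) ⊓ Subgroup.normalClosure (S : Set G) :=
  rankOne_aux (Nat.card G + 1) G (Nat.lt_succ_self _) T S hcl h1

end CfsgLib.StrongClosure34
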