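import Cfsg.Agent.StrongClosure34.Puig
import Cfsg.Agent.Criterion.Final
import Cfsg.Agent.FourTransOdd.Basic
import Cfsg.Agent.S1250

/-!
A strongly closed 2-subgroup whose elements have their fusion controlled by a proper subgroup `H`:
the associated class of involutions satisfies the strong embedding criterion.
-/

set_option autoImplicit false

namespace CfsgLib.StrongClosure34

open Cfsg CfsgLib.StronglyEmbedded

variable {G : Type*} [Group G]

/-- The hypotheses, in closed form. -/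
structure Hyp (T : Sylow 2 G) (S H : Subgroup G) : Prop where
  closed : IsStronglyClosed S (T : Subgroup G)
  ne_bot : S ≠ ⊥
  ne_top : H ≠ ⊤
  le_H : (T : Subgroup G) ≤ H
  control : ∀ s ∈ S, s ≠ 1 → ∀ g : G, g * s * g⁻¹ ∈ H → g ∈ H

/-- The intermediate form of the conclusion. -/
def Conc (T : Sylow 2 G) (S : Subgroup G) : Prop :=
  S = (T : Subgroup G) ⊓ Subgroup.normalClosure (S : Set G) ∨
    ((∀ s ∈ S, s * s = 1) ∧
      ∀ x ∈ (T : Subgroup G) ⊓ Subgroup.normalClosure (S : Set G), x * x = 1 → x ∈ S)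

/-- `S` contains two commuting involutions. -/
def RankTwoIn (S : Subgroup G) : Prop :=
  ∃ a ∈ S, ∃ b ∈ S, orderOf a = 2 ∧ orderOf b = 2 ∧ a ≠ b ∧ Commute a b

/-- The involutions conjugate into `S`. -/
def invSet (S : Subgroup G) : Set G := {x | orderOf x = 2 ∧ ∃ g : G, g * x * g⁻¹ ∈ S}

theorem mem_invSet {S : Subgroup G} {x : G} (hx : x ∈ S) (ho : orderOf x = 2) : x ∈ invSet S :=
  ⟨ho, 1, by simpa using hx⟩

variable [Finite G] {T : Sylow 2 G} {S H : Subgroup G}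

theorem exists_central_involution (hcl : IsStronglyClosed S (T : Subgroup G)) (hS : S ≠ ⊥) :
    ∃ z ∈ S, orderOf z = 2 ∧ ∀ t ∈ (T : Subgroup G), t * z = z * t := by
  haveI : Fact (Nat.Prime 2) := ⟨Nat.prime_two⟩
  haveI : (S.subgroupOf (T : Subgroup G)).Normal :=
    ⟨fun x hx g => conj_mem_of_closed hcl g.2 hx⟩
  have hne : S.subgroupOf (T : Subgroup G) ≠ ⊥ := fun h => hS <| by
    rw [eq_bot_iff]
    intro x hx
    have h1 : (⟨x, hcl.1 hx⟩ : (T : Subgroup G)) ∈ S.subgroupOf (T : Subgroup G) := hx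
    rw [h, Subgroup.mem_bot] at h1
    exact Subgroup.mem_bot.2 (congrArg Subtype.val h1)
  obtain ⟨w, hw, hw1⟩ := (Subgroup.bot_or_exists_ne_one _).resolve_left
    (CfsgLib.PGroup.inf_center_ne_bot T.2 _ hne)
  obtain ⟨m, hm⟩ := exists_orderOf_two_pow T.2 w.2 fun e => hw1 (Subtype.ext e)
  refine ⟨_, pow_mem hw.1 m, hm, fun t ht => ?_⟩
  have h := Subgroup.mem_center_iff.1 hw.2 ⟨t, ht⟩
  exact ((show Commute t (w : G) from congrArg Subtype.val h).pow_right m).eq

/-- The hypotheses of the statement give the closed form. -/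
theorem Hyp.of_local (hcl : IsStronglyClosed S (T : Subgroup G)) (hS : S ≠ ⊥) (hH : H ≠ ⊤)
    (hC : ∀ s ∈ S, s ≠ 1 → ∀ x : G, x * s = s * x → x ∈ H)
    (hN : ∀ x : G, (∀ s ∈ S, x * s * x⁻¹ ∈ S) → x ∈ H) : Hyp T S H := by
  haveI : Fact (Nat.Prime 2) := ⟨Nat.prime_two⟩
  have hTH : (T : Subgroup G) ≤ H := fun t ht => hN t fun s hs => conj_mem_of_closed hcl ht hs
  obtain ⟨z, hzS, hz, hzT⟩ := exists_central_involution hcl hS
  -- control for the central involution
  have hcz : ∀ g : G, g * z * g⁻¹ ∈ H → g ∈ H := by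
    intro g hg
    obtain ⟨h, hh, hc⟩ := exists_conj_mem hTH (x := g * z * g⁻¹)
      (mul_self_eq_one (by rw [orderOf_conj, hz])) hg
    rw [conj_mul_conj] at hc
    have hz' := hcl.2 z hzS (h * g) hc
    have hne : h * g * z * (h * g)⁻¹ ≠ 1 :=
      ne_one_of_orderOf_two (by rw [orderOf_conj, hz])
    set R := (T : Subgroup G).map (MulAut.conj (h * g)).toMonoidHom with hR
    have hRH : R ≤ H := by
      rintro _ ⟨t, ht, rfl⟩
      refine hC _ hz' hne _ ?_
      simp only [MulEquiv.coe_toMonoidHom, MulAut.conj_apply]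
      calc h * g * t * (h * g)⁻¹ * (h * g * z * (h * g)⁻¹) = h * g * (t * z) * (h * g)⁻¹ := by group
        _ = h * g * (z * t) * (h * g)⁻¹ := by rw [hzT t ht]
        _ = _ := by group
    obtain ⟨k, hk, hkc⟩ := exists_conj_le hTH (T.2.map _ : IsPGroup 2 R) hRH
    have hn : k * (h * g) ∈ H := by
      refine hN _ fun s hs => hcl.2 s hs _ ?_
      rw [← conj_mul_conj]
      exact hkc _ ⟨s, hcl.1 hs, rfl⟩
    have := H.mul_mem (H.inv_mem (H.mul_mem hk hh)) hn
    rwa [show (k * h)⁻¹ * (k * (h * g)) = g by group] at this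
  refine ⟨hcl, hS, hH, hTH, fun s hs hs1 g hg => ?_⟩
  obtain ⟨m, hm⟩ := exists_orderOf_two_pow (T.2.to_le hcl.1) hs hs1
  have hg' : g * s ^ m * g⁻¹ ∈ H := by rw [← conj_pow]; exact pow_mem hg m
  obtain ⟨h, hh, hc⟩ := exists_conj_mem hTH (x := g * s ^ m * g⁻¹)
    (mul_self_eq_one (by rw [orderOf_conj, hm])) hg'
  rw [conj_mul_conj] at hc
  have hu := hcl.2 _ (pow_mem hs m) (h * g) hc
  have hne : h * g * s ^ m * (h * g)⁻¹ ≠ 1 := ne_one_of_orderOf_two (by rw [orderOf_conj, hm])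
  have h1 : h * g * z * (h * g)⁻¹ ∈ H := by
    refine hC _ hu hne _ ?_
    calc h * g * z * (h * g)⁻¹ * (h * g * s ^ m * (h * g)⁻¹) =
          h * g * (z * s ^ m) * (h * g)⁻¹ := by group
      _ = h * g * (s ^ m * z) * (h * g)⁻¹ := by rw [hzT _ (hcl.1 (pow_mem hs m))]
      _ = _ := by group
  have := H.mul_mem (H.inv_mem hh) (hcz _ h1)
  rwa [inv_mul_cancel_left] at this

theorem Hyp.exists_involution (h : Hyp T S H) : ∃ z ∈ S, orderOf z = 2 := by
  obtain ⟨s, hs, hs1⟩ := S.bot_or_exists_ne_one.resolve_left h.ne_bot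
  obtain ⟨m, hm⟩ := exists_orderOf_two_pow (T.2.to_le h.closed.1) hs hs1
  exact ⟨_, pow_mem hs m, hm⟩

/-- No normal subgroup containing an element of `S#` is inside `H`. -/
theorem Hyp.not_normal_le (h : Hyp T S H) {N : Subgroup G} [hN : N.Normal] {s : G} (hs : s ∈ S)
    (hs1 : s ≠ 1) (hsN : s ∈ N) : ¬ N ≤ H := fun hle =>
  h.ne_top (eq_top_iff.2 fun g _ => h.control s hs hs1 g (hle (hN.conj_mem s hsN g)))

/-- An element commuting with an element of `S#` lies in `H`. -/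
theorem Hyp.mem_of_commute (h : Hyp T S H) {s x : G} (hs : s ∈ S) (hs1 : s ≠ 1)
    (hx : Commute s x) : x ∈ H :=
  h.control s hs hs1 x (by rw [← hx.eq, mul_inv_cancel_right]; exact h.le_H (h.closed.1 hs))

theorem Hyp.oddCore_le (h : Hyp T S H) (h2 : RankTwoIn S) : pPrimeCore 2 G ≤ H := by
  haveI : Fact (Nat.Prime 2) := ⟨Nat.prime_two⟩
  haveI : (pPrimeCore 2 G).Normal := CfsgLib.Balance.oddCore_normal_inst (G := G) 2
  obtain ⟨a, ha, b, hb, hao, hbo, hab, hc⟩ := h2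
  have conj : ∀ {w : G}, orderOf w = 2 → ∀ x ∈ pPrimeCore 2 G, w * x * w ∈ pPrimeCore 2 G := by
    intro w hw x hx
    have := (inferInstance : (pPrimeCore 2 G).Normal).conj_mem x hx w
    rwa [inv_eq_self hw] at this
  refine CfsgLib.FourTransOdd.le_of_four_group (z := a) (s := b) (fun x hx => ?_)
    (mul_self_eq_one hao) (mul_self_eq_one hbo) hc (conj hao) (conj hbo)
    (fun x _ hx => h.mem_of_commute ha (ne_one_of_orderOf_two hao) hx)
    (fun x _ hx => h.mem_of_commute hb (ne_one_of_orderOf_two hbo) hx)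
    (fun x _ hx => h.mem_of_commute (S.mul_mem ha hb) (fun e => hab ?_) hx)
  · have hnd : ¬ 2 ∣ Nat.card ↥(pPrimeCore 2 G) := Constrained.pPrimeCore_not_dvd
    exact Nat.odd_iff.2 (Nat.two_dvd_ne_zero.1 fun h2 =>
      hnd (h2.trans (Subgroup.orderOf_dvd_natCard _ hx)))
  · rw [eq_inv_of_mul_eq_one_left e, inv_eq_self hbo]

/-- The class of involutions conjugate into `S` satisfies the criterion. -/
theorem Hyp.setting (h : Hyp T S H) : CfsgLib.Criterion.Setting H (invSet S) := by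
  haveI : Fact (Nat.Prime 2) := ⟨Nat.prime_two⟩
  obtain ⟨z, hzS, hz⟩ := h.exists_involution
  refine ⟨h.ne_top, ?_, fun x hx => hx.1, ?_, ⟨z, mem_invSet hzS hz, h.le_H (h.closed.1 hzS)⟩,
    ?_, ?_⟩
  · refine Nat.odd_iff.2 (Nat.two_dvd_ne_zero.1 fun hd => T.not_dvd_index ?_)
    exact hd.trans (Subgroup.index_dvd_of_le h.le_H)
  · rintro g x ⟨hx, k, hk⟩
    refine ⟨by rw [orderOf_conj, hx], k * g⁻¹, ?_⟩
    rwa [show k * g⁻¹ * (g * x * g⁻¹) * (k * g⁻¹)⁻¹ = k * x * k⁻¹ by group]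
  · rintro x ⟨hx, k, hk⟩ hxH g hg
    have hne : k * x * k⁻¹ ≠ 1 := ne_one_of_orderOf_two (by rw [orderOf_conj, hx])
    have h1 : k⁻¹ ∈ H := h.control _ hk hne k⁻¹
      (by rwa [show k⁻¹ * (k * x * k⁻¹) * k⁻¹⁻¹ = x by group])
    have h2 : g * k⁻¹ ∈ H := h.control _ hk hne (g * k⁻¹)
      (by rwa [show g * k⁻¹ * (k * x * k⁻¹) * (g * k⁻¹)⁻¹ = g * x * g⁻¹ by group])
    have := H.mul_mem h2 (H.inv_mem h1)
    rwa [inv_inv, inv_mul_cancel_right] at this
  · rintro x ⟨hx, k, hk⟩ y ⟨hy, l, hl⟩ hc hne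
    have hP : IsPGroup 2 ↥(Subgroup.zpowers x ⊔ Subgroup.zpowers y) := by
      refine (isPGroup_zpowers_of_mul_self (mul_self_eq_one hx)).to_sup_of_normal_right'
        (isPGroup_zpowers_of_mul_self (mul_self_eq_one hy)) (Subgroup.zpowers_le.2 ?_)
      refine mem_normalizer_of_conj_mem fun w hw => ?_
      obtain ⟨i, rfl⟩ := Subgroup.mem_zpowers_iff.1 hw
      rw [(hc.zpow_right i).eq, mul_inv_cancel_right]
      exact hw
    obtain ⟨g, -, hg⟩ := exists_conj_le (T := T) (H := ⊤) le_top hP le_top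
    have hgx : g * x * g⁻¹ ∈ S := by
      have := h.closed.2 _ hk (g * k⁻¹) (by
        rw [show g * k⁻¹ * (k * x * k⁻¹) * (g * k⁻¹)⁻¹ = g * x * g⁻¹ by group]
        exact hg x (Subgroup.mem_sup_left (Subgroup.mem_zpowers x)))
      rwa [show g * k⁻¹ * (k * x * k⁻¹) * (g * k⁻¹)⁻¹ = g * x * g⁻¹ by group] at this
    have hgy : g * y * g⁻¹ ∈ S := by
      have := h.closed.2 _ hl (g * l⁻¹) (by
        rw [show g * l⁻¹ * (l * y * l⁻¹) * (g * l⁻¹)⁻¹ = g * y * g⁻¹ by group]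
        exact hg y (Subgroup.mem_sup_right (Subgroup.mem_zpowers y)))
      rwa [show g * l⁻¹ * (l * y * l⁻¹) * (g * l⁻¹)⁻¹ = g * y * g⁻¹ by group] at this
    refine ⟨orderOf_two_iff.2 ⟨?_, fun e => hne ?_⟩, g, ?_⟩
    · rw [show x * y * (x * y) = x * (y * x) * y by group, ← hc.eq,
        show x * (x * y) * y = x * x * (y * y) by group, mul_self_eq_one hx, mul_self_eq_one hy,
        one_mul]
    · rw [eq_inv_of_mul_eq_one_left e, inv_eq_self hy]
    · rw [show g * (x * y) * g⁻¹ = g * x * g⁻¹ * (g * y * g⁻¹) by group]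
      exact S.mul_mem hgx hgy

/-- Passage to the quotient by a normal subgroup of odd order inside `H`. -/
theorem Hyp.quotient (h : Hyp T S H) {O : Subgroup G} [O.Normal] (hO : O ≤ H)
    (hodd : Odd (Nat.card O)) :
    Hyp (T.mapSurjective (QuotientGroup.mk'_surjective O)) (S.map (QuotientGroup.mk' O))
      (H.map (QuotientGroup.mk' O)) := by
  haveI : Fact (Nat.Prime 2) := ⟨Nat.prime_two⟩
  set π := QuotientGroup.mk' O with hπ
  have hker : π.ker ≤ H := by rw [hπ, QuotientGroup.ker_mk']; exact hO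
  have hcom : ∀ x, π x ∈ H.map π → x ∈ H := fun x hx => by
    rw [← Subgroup.comap_map_eq_self hker]; exact hx
  refine ⟨Cfsg.Agent.S1250.result T S h.closed O, fun e => ?_, fun e => h.ne_top ?_, ?_, ?_⟩
  · obtain ⟨z, hz, hzo⟩ := h.exists_involution
    have hzO : z ∈ O := by
      have : π z ∈ S.map π := ⟨z, hz, rfl⟩
      rw [e, Subgroup.mem_bot] at this
      exact (QuotientGroup.eq_one_iff z).1 this
    have h2 := Subgroup.orderOf_dvd_natCard _ hzO
    rw [hzo] at h2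
    exact Nat.not_even_iff_odd.2 hodd (even_iff_two_dvd.2 h2)
  · exact eq_top_iff.2 fun g _ => hcom g (e ▸ Subgroup.mem_top _)
  · rw [Sylow.coe_mapSurjective]; exact Subgroup.map_mono h.le_H
  · rintro _ ⟨s, hs, rfl⟩ hs1 g hg
    obtain ⟨g, rfl⟩ := QuotientGroup.mk'_surjective O g
    have hs1' : s ≠ 1 := fun e => hs1 (by rw [e, map_one])
    rw [← map_inv, ← map_mul, ← map_mul] at hg
    exact ⟨g, h.control s hs hs1' g (hcom _ hg), rfl⟩

end CfsgLib.StrongClosure34
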